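import Mathlib

/-!
Counting for the orbit of a point under an overgroup of a three-dimensional orthogonal group.
-/

set_option autoImplicit false

namespace Cfsg.Agent.ClassicalMax.SU3.SO

variable {K : Type*} [Field K] [Finite K]

/-- the size of a set of pairs invariant under the weighted scaling -/
theorem card_weighted (h2 : (2 : K) ≠ 0) {h : ℕ} (hK : Nat.card K = 2 * h + 1) (S : Set (K × K)) (h0 : (0, 0) ∈ S)
    (hinv : ∀ t : K, t ≠ 0 → ∀ p ∈ S, (t * p.1, t * t * p.2) ∈ S) :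
    ∃ i, i ≤ 2 * Nat.card K + 2 ∧ Nat.card S = 1 + h * i := by
  classical
  haveI : Fintype K := Fintype.ofFinite K
  have hh : 0 < h := by
    by_contra hh
    have := Finite.one_lt_card (α := K)
    omega
  have hU : Nat.card Kˣ = 2 * h := by rw [Nat.card_units, hK, Nat.add_sub_cancel]
  set J₁ : Set K := {I | ((1 : K), I) ∈ S} with hJ₁
  set J₀ : Set Kˣ := {I | ((0 : K), (I : K)) ∈ S} with hJ₀
  let f : S → Unit ⊕ ((Kˣ × J₁) ⊕ J₀) := fun p =>
    if h1 : p.1.1 = 0 then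
      if h3 : p.1.2 = 0 then Sum.inl ()
      else Sum.inr (Sum.inr ⟨Units.mk0 _ h3, by
        show ((0 : K), p.1.2) ∈ S
        rw [← h1]; exact p.2⟩)
    else Sum.inr (Sum.inl (Units.mk0 _ h1, ⟨p.1.2 / (p.1.1 * p.1.1), by
      have := hinv p.1.1⁻¹ (inv_ne_zero h1) p.1 p.2
      show ((1 : K), _) ∈ S
      rwa [inv_mul_cancel₀ h1, ← mul_inv, inv_mul_eq_div] at this⟩))
  have hf : Function.Bijective f := by
    refine ⟨?_, ?_⟩
    · rintro ⟨⟨a, b⟩, hp⟩ ⟨⟨a', b'⟩, hp'⟩ hab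
      refine Subtype.ext ?_
      by_cases ha : a = 0 <;> by_cases ha' : a' = 0
      · by_cases hb : b = 0 <;> by_cases hb' : b' = 0 <;> simp [f, ha, ha', hb, hb', Units.ext_iff] at hab ⊢
        exact hab
      · by_cases hb : b = 0 <;> simp [f, ha, ha', hb] at hab
      · by_cases hb' : b' = 0 <;> simp [f, ha, ha', hb'] at hab
      · simp [f, ha, ha', Units.ext_iff] at hab
        obtain ⟨rfl, e2⟩ := hab
        rw [div_left_inj' (mul_ne_zero ha ha)] at e2
        exact Prod.ext rfl e2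
    · rintro (x | ⟨t, I⟩ | I)
      · exact ⟨⟨(0, 0), h0⟩, by simp [f]⟩
      · refine ⟨⟨((t : K), t * t * I.1), ?_⟩, ?_⟩
        · have := hinv t t.ne_zero ((1 : K), I.1) I.2
          rwa [mul_one] at this
        · simp [f]
      · exact ⟨⟨((0 : K), (I.1 : K)), I.2⟩, by simp [f]⟩
  have hc := Nat.card_eq_of_bijective f hf
  rw [Nat.card_sum, Nat.card_unique (α := Unit), Nat.card_sum, Nat.card_prod, hU] at hc
  -- the vertical part is a union of classes of squares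
  set H : Subgroup Kˣ := (powMonoidHom 2 : Kˣ →* Kˣ).range with hH
  have hker : Nat.card (powMonoidHom 2 : Kˣ →* Kˣ).ker = 2 := by
    rw [IsCyclic.card_powMonoidHom_ker, hU]
    exact Nat.gcd_eq_right (dvd_mul_right 2 h)
  have hHc : Nat.card H = h := by
    have := (powMonoidHom 2 : Kˣ →* Kˣ).ker.index_mul_card
    rw [Subgroup.index_ker, hker, hU] at this
    rw [hH]; omega
  have hJ : J₀ = QuotientGroup.mk ⁻¹' ((QuotientGroup.mk : Kˣ → Kˣ ⧸ H) '' J₀) := by
    refine le_antisymm (Set.subset_preimage_image _ _) ?_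
    rintro x ⟨y, hy, hxy⟩
    obtain ⟨t, ht⟩ := QuotientGroup.eq.1 hxy
    have := hinv t t.ne_zero _ hy
    rw [mul_zero] at this
    show ((0 : K), (x : K)) ∈ S
    convert this using 2
    rw [show x = y * (t * t) by rw [← pow_two, show t ^ 2 = y⁻¹ * x from ht, mul_inv_cancel_left]]
    push_cast
    ring
  have hq : Nat.card (Kˣ ⧸ H) = 2 := by
    have := H.index_mul_card
    rw [hHc, hU] at this
    exact Nat.eq_of_mul_eq_mul_right hh this
  set k := Nat.card ((QuotientGroup.mk : Kˣ → Kˣ ⧸ H) '' J₀) with hk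
  have hJc : Nat.card J₀ = h * k := by
    rw [hk]
    conv_lhs => rw [hJ]
    rw [Nat.card_congr (QuotientGroup.preimageMkEquivSubgroupProdSet H _), Nat.card_prod, hHc]
  have hk2 : k ≤ 2 := hq ▸ Nat.card_le_card_of_injective Subtype.val Subtype.val_injective
  have hJ1 : Nat.card J₁ ≤ Nat.card K := Nat.card_le_card_of_injective Subtype.val Subtype.val_injective
  refine ⟨2 * Nat.card J₁ + k, by omega, ?_⟩
  rw [hc, hJc]; ring

/-- the possible orbit sizes -/
theorem orbit_arith {q h i m : ℕ} (hq : q = 2 * h + 1) (h7 : 7 ≤ q) (hi : i ≤ 2 * q + 2)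
    (hm : 1 + q * (1 + h * i) = (q + 1) * m) (hd : m ∣ q ^ 2 * (q ^ 3 + 1)) :
    i = 0 ∨ 1 + q * (1 + h * i) = q ^ 3 + 1 := by
  rcases Nat.eq_zero_or_pos i with h0 | h0
  · exact Or.inl h0
  right
  have hZ : (1 : ℤ) + q * (1 + h * i) = (q + 1) * m := by exact_mod_cast hm
  have hqZ : (q : ℤ) = 2 * h + 1 := by exact_mod_cast hq
  have h1 : (q : ℤ) + 1 ∣ q * ((h : ℤ) * i) := ⟨(m : ℤ) - 1, by linear_combination hZ⟩
  have hcop : IsCoprime ((q : ℤ) + 1) q := ⟨1, -1, by ring⟩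
  have h2 : (q : ℤ) + 1 ∣ (h : ℤ) * i := hcop.dvd_of_dvd_mul_left h1
  obtain ⟨j, hj⟩ : (q : ℤ) + 1 ∣ 2 * (i : ℤ) := by
    have e : 2 * (i : ℤ) = ((q : ℤ) + 1) * i - 2 * ((h : ℤ) * i) := by rw [hqZ]; ring
    rw [e]; exact dvd_sub (dvd_mul_right _ _) (h2.mul_left 2)
  have hi' : (i : ℤ) ≤ 2 * q + 2 := by exact_mod_cast hi
  have hi0 : (0 : ℤ) < i := by exact_mod_cast h0
  have hj4 : j ≤ 4 := by nlinarith
  have hj1 : 1 ≤ j := by nlinarith
  have hm4 : 4 * ((m : ℤ) - 1) = q * ((q : ℤ) - 1) * j := by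
    refine mul_left_cancel₀ (show (q : ℤ) + 1 ≠ 0 by positivity) ?_
    linear_combination -4 * hZ + (q * ((q : ℤ) - 1)) * hj + (-2 * (q : ℤ) * i) * hqZ
  have hd' : (m : ℤ) ∣ (q : ℤ) ^ 3 + 1 := by
    have hm1 : IsCoprime (m : ℤ) q := ⟨1 + q, -(1 + (h : ℤ) * i), by linear_combination -hZ⟩
    have hd0 : (m : ℤ) ∣ (q : ℤ) ^ 2 * ((q : ℤ) ^ 3 + 1) := by exact_mod_cast hd
    exact (hm1.pow_right (n := 2)).dvd_of_dvd_mul_left hd0
  interval_cases j
  · exfalso
    have h3 : (m : ℤ) ∣ 3 * ((q : ℤ) + 1) := by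
      have := (dvd_mul_left (m : ℤ) (4 * ((q : ℤ) + 1))).sub hd'
      rw [show 4 * ((q : ℤ) + 1) * m - ((q : ℤ) ^ 3 + 1) = 3 * (q + 1) by linear_combination ((q : ℤ) + 1) * hm4] at this
      exact this
    have h18 : (m : ℤ) ∣ 18 := by
      have := ((dvd_mul_left (m : ℤ) 12)).sub (h3.mul_left ((q : ℤ) - 2))
      rw [show 12 * (m : ℤ) - ((q : ℤ) - 2) * (3 * (q + 1)) = 18 by linear_combination 3 * hm4] at this
      exact this
    have := Int.le_of_dvd (by norm_num) h18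
    have hq8 : q ≤ 8 := by nlinarith
    obtain rfl : q = 7 := by omega
    omega
  · exfalso
    have h3 : (m : ℤ) ∣ (q : ℤ) + 1 := by
      have := (dvd_mul_left (m : ℤ) (2 * ((q : ℤ) + 1))).sub hd'
      rw [show 2 * ((q : ℤ) + 1) * m - ((q : ℤ) ^ 3 + 1) = q + 1 by
        have e : 2 * (m : ℤ) - ((q : ℤ) ^ 2 - q + 1) = 1 := by linarith [hm4]
        linear_combination ((q : ℤ) + 1) * e] at this
      exact this
    have := Int.le_of_dvd (by positivity) h3
    nlinarith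
  · exfalso
    have h3 : (m : ℤ) ∣ (q : ℤ) + 1 := by
      have := (dvd_mul_left (m : ℤ) (4 * ((q : ℤ) + 1))).sub (hd'.mul_left 3)
      rw [show 4 * ((q : ℤ) + 1) * m - 3 * ((q : ℤ) ^ 3 + 1) = q + 1 by linear_combination ((q : ℤ) + 1) * hm4] at this
      exact this
    have := Int.le_of_dvd (by positivity) h3
    nlinarith
  · have hmq : (m : ℤ) = (q : ℤ) ^ 2 - q + 1 := by linarith [hm4]
    have : ((1 + q * (1 + h * i) : ℕ) : ℤ) = ((q ^ 3 + 1 : ℕ) : ℤ) := by
      push_cast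
      rw [hZ, hmq]; ring
    exact_mod_cast this

end Cfsg.Agent.ClassicalMax.SU3.SO
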