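import Cfsg.Agent.ClassicalMax.SU4.SubBase
import Cfsg.Agent.ClassicalMax.SU3.Base

/-!
The orthogonal subfield group in dimension three: rational elements adapted to a frame of two isotropic vectors and
one anisotropic vector.
-/

set_option autoImplicit false
set_option linter.unusedSectionVars false
set_option linter.style.haveILetI false

namespace Cfsg.Agent.ClassicalMax.SU3.SO

open Module Cfsg.Agent.Classical Cfsg.Agent.ClassicalMax Cfsg.Agent.ClassicalMax.Subfield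
open Cfsg.Agent.ClassicalMax.SU4.Sub (sg Tv sg_apply Tv_apply)

variable {F : Type*} [Field F] [Fintype F] {σ : F →+* F} {F₀ : Subfield F}
  {A : (Fin 3 → F) →ₛₗ[σ] (Fin 3 → F) →ₗ[F] F} {e u f : Fin 3 → F}

/-- a rational frame -/
structure Fr (F₀ : Subfield F) (A : (Fin 3 → F) →ₛₗ[σ] (Fin 3 → F) →ₗ[F] F) (e u f : Fin 3 → F) : Prop where
  herm : Herm.IsHerm A
  fix : ∀ a, a ∈ F₀ ↔ σ a = a
  two : (2 : F) ≠ 0
  form : ∀ a b : Fin 3 → F, RV F₀ a → RV F₀ b → A a b ∈ F₀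
  re : RV F₀ e
  ru : RV F₀ u
  rf : RV F₀ f
  ee : A e e = 0
  ff : A f f = 0
  ef : A e f = 1
  eu : A e u = 0
  fu : A f u = 0
  qu : A u u ≠ 0

namespace Fr

variable (hF : Fr F₀ A e u f)
include hF

theorem ue : A u e = 0 := (Herm.eq_zero_comm hF.herm).1 hF.eu
theorem uf : A u f = 0 := (Herm.eq_zero_comm hF.herm).1 hF.fu
theorem fe : A f e = 1 := by rw [← hF.herm.symm e f, hF.ef, map_one]
theorem sym (a b : Fin 3 → F) : σ (A a b) = A b a := hF.herm.symm _ _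
theorem invol (a : F) : σ (σ a) = a := hF.herm.invol a
theorem fx {a : F} (h : a ∈ F₀) : σ a = a := (hF.fix a).1 h
theorem qu_mem : A u u ∈ F₀ := hF.form _ _ hF.ru hF.ru
theorem fqu : σ (A u u) = A u u := hF.sym _ _
theorem two_mem : (2 : F) ∈ F₀ := by rw [← one_add_one_eq_two]; exact F₀.add_mem F₀.one_mem F₀.one_mem
theorem e0 : e ≠ 0 := fun h => by simpa [h] using hF.ef
theorem f0 : f ≠ 0 := fun h => by simpa [h] using hF.ef
theorem u0 : u ≠ 0 := fun h => hF.qu (by simp [h])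

theorem indep : LinearIndependent F ![e, u, f] := by
  rw [Fintype.linearIndependent_iff]
  intro g hg
  rw [Fin.sum_univ_three] at hg
  replace hg : g 0 • e + g 1 • u + g 2 • f = 0 := hg
  have h1 := congrArg (A e) hg
  have h2 := congrArg (A u) hg
  have h3 := congrArg (A f) hg
  simp [hF.ee, hF.ff, hF.ef, hF.fe, hF.eu, hF.ue, hF.fu, hF.uf, hF.qu] at h1 h2 h3
  intro i
  fin_cases i <;> assumption

/-- the frame as a basis -/
noncomputable def bas : Basis (Fin 3) F (Fin 3 → F) :=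
  basisOfLinearIndependentOfCardEqFinrank hF.indep (by rw [Fintype.card_fin, Module.finrank_fin_fun])

theorem bas_apply (i : Fin 3) : hF.bas i = ![e, u, f] i := by
  rw [bas, coe_basisOfLinearIndependentOfCardEqFinrank]

theorem decomp (x : Fin 3 → F) : x = A f x • e + (A u x / A u u) • u + A e x • f := by
  conv_lhs => rw [← hF.bas.sum_repr x]
  rw [Fin.sum_univ_three, hF.bas_apply, hF.bas_apply, hF.bas_apply]
  have h := (hF.bas.sum_repr x).symm
  rw [Fin.sum_univ_three, hF.bas_apply, hF.bas_apply, hF.bas_apply] at h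
  have h1 := congrArg (A e) h
  have h2 := congrArg (A u) h
  have h3 := congrArg (A f) h
  simp [hF.ee, hF.ff, hF.ef, hF.fe, hF.eu, hF.ue, hF.fu, hF.uf] at h1 h2 h3
  rw [h1, h2, h3, mul_div_cancel_right₀ _ hF.qu]
  rfl

theorem coords (a b c : F) :
    A f (a • e + b • u + c • f) = a ∧ A u (a • e + b • u + c • f) = b * A u u ∧ A e (a • e + b • u + c • f) = c := by
  simp [hF.ee, hF.ff, hF.ef, hF.fe, hF.eu, hF.ue, hF.fu, hF.uf]

theorem ext_frame {g g' : (Fin 3 → F) ≃ₗ[F] (Fin 3 → F)} (h1 : g e = g' e) (h2 : g u = g' u) (h3 : g f = g' f) :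
    g = g' :=
  LinearEquiv.ext fun x => by
    rw [hF.decomp x]
    simp [h1, h2, h3]

theorem rat_coords {z : Fin 3 → F} (hz : RV F₀ z) : A f z ∈ F₀ ∧ A u z / A u u ∈ F₀ ∧ A e z ∈ F₀ :=
  ⟨hF.form _ _ hF.rf hz, F₀.div_mem (hF.form _ _ hF.ru hz) hF.qu_mem, hF.form _ _ hF.re hz⟩

theorem ratty_of_frame {g : (Fin 3 → F) ≃ₗ[F] (Fin 3 → F)} {c : F} (hc : c ≠ 0) (h1 : RV F₀ (c • g e))
    (h2 : RV F₀ (c • g u)) (h3 : RV F₀ (c • g f)) : Ratty F₀ g :=
  ⟨c, hc, fun i => by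
    obtain ⟨a1, a2, a3⟩ := hF.rat_coords (rv_single i)
    rw [hF.decomp (Pi.single i (1 : F)), map_add, map_add, map_smul, map_smul, map_smul, smul_add, smul_add,
      smul_comm c, smul_comm c, smul_comm c]
    exact ((h1.smul a1).add (h2.smul a2)).add (h3.smul a3)⟩

theorem det_frame (g : (Fin 3 → F) ≃ₗ[F] (Fin 3 → F)) {a b c d p r : F} (h1 : g e = a • e)
    (h2 : g u = p • e + b • u) (h3 : g f = r • e + d • u + c • f) : LinearMap.det g.toLinearMap = a * b * c := by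
  rw [← LinearMap.det_toMatrix hF.bas, Matrix.det_fin_three]
  have hr : ∀ (x : Fin 3 → F), hF.bas.repr x 0 = A f x ∧ hF.bas.repr x 1 = A u x / A u u ∧ hF.bas.repr x 2 = A e x := by
    intro x
    have h := (hF.bas.sum_repr x).symm
    rw [Fin.sum_univ_three, hF.bas_apply, hF.bas_apply, hF.bas_apply] at h
    have h1 := congrArg (A e) h
    have h2 := congrArg (A u) h
    have h3 := congrArg (A f) h
    simp [hF.ee, hF.ff, hF.ef, hF.fe, hF.eu, hF.ue, hF.fu, hF.uf] at h1 h2 h3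
    exact ⟨h3.symm, by rw [h2, mul_div_cancel_right₀ _ hF.qu], h1.symm⟩
  simp only [LinearMap.toMatrix_apply, LinearEquiv.coe_coe, hF.bas_apply]
  simp [hr, h1, h2, h3, hF.ee, hF.ff, hF.ef, hF.fe, hF.eu, hF.ue, hF.fu, hF.uf, hF.qu]

/-- the diagonal element -/
noncomputable def dg (t : Fˣ) (b : Fˣ) : (Fin 3 → F) ≃ₗ[F] (Fin 3 → F) where
  toFun x := ((t : F) * A f x) • e + ((b : F) * (A u x / A u u)) • u + ((t : F)⁻¹ * A e x) • f
  map_add' x y := by simp only [map_add, mul_add, add_smul, add_div]; abel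
  map_smul' a x := by simp only [map_smul, smul_eq_mul, smul_add, smul_smul, RingHom.id_apply]; ring_nf
  invFun x := ((t : F)⁻¹ * A f x) • e + ((b : F)⁻¹ * (A u x / A u u)) • u + ((t : F) * A e x) • f
  left_inv x := by
    obtain ⟨k1, k2, k3⟩ := hF.coords ((t : F) * A f x) ((b : F) * (A u x / A u u)) ((t : F)⁻¹ * A e x)
    simp only []
    rw [k1, k2, k3, mul_div_cancel_right₀ _ hF.qu, inv_mul_cancel_left₀ t.ne_zero, inv_mul_cancel_left₀ b.ne_zero,
      mul_inv_cancel_left₀ t.ne_zero]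
    exact (hF.decomp x).symm
  right_inv x := by
    obtain ⟨k1, k2, k3⟩ := hF.coords ((t : F)⁻¹ * A f x) ((b : F)⁻¹ * (A u x / A u u)) ((t : F) * A e x)
    simp only []
    rw [k1, k2, k3, mul_div_cancel_right₀ _ hF.qu, mul_inv_cancel_left₀ t.ne_zero, mul_inv_cancel_left₀ b.ne_zero,
      inv_mul_cancel_left₀ t.ne_zero]
    exact (hF.decomp x).symm

theorem dg_apply (t b : Fˣ) : hF.dg t b e = (t : F) • e ∧ hF.dg t b u = (b : F) • u ∧ hF.dg t b f = (t : F)⁻¹ • f := by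
  refine ⟨?_, ?_, ?_⟩
  · show ((t : F) * A f e) • e + ((b : F) * (A u e / A u u)) • u + ((t : F)⁻¹ * A e e) • f = _
    simp [hF.ee, hF.fe, hF.ue]
  · show ((t : F) * A f u) • e + ((b : F) * (A u u / A u u)) • u + ((t : F)⁻¹ * A e u) • f = _
    simp [hF.fu, hF.eu, hF.qu]
  · show ((t : F) * A f f) • e + ((b : F) * (A u f / A u u)) • u + ((t : F)⁻¹ * A e f) • f = _
    simp [hF.ff, hF.uf, hF.ef]

theorem mem_of_frame {g : (Fin 3 → F) ≃ₗ[F] (Fin 3 → F)} (h : ∀ i j, A (g (![e, u, f] i)) (g (![e, u, f] j)) = A (![e, u, f] i) (![e, u, f] j))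
    (hd : LinearMap.det g.toLinearMap = 1) : g ∈ Herm.suG A := by
  refine Unitary.mem_suG hF.herm (fun x y => ?_) hd
  have a1 := h 0 0
  have a2 := h 0 1
  have a3 := h 0 2
  have b1 := h 1 0
  have b2 := h 1 1
  have b3 := h 1 2
  have c1 := h 2 0
  have c2 := h 2 1
  have c3 := h 2 2
  simp only [Matrix.cons_val_zero, Matrix.cons_val_one, Matrix.cons_val] at a1 a2 a3 b1 b2 b3 c1 c2 c3
  rw [hF.decomp x, hF.decomp y]
  simp only [map_add, map_smulₛₗ, LinearMap.add_apply, LinearMap.smul_apply, RingHom.id_apply, smul_eq_mul, map_add,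
    map_smul, a1, a2, a3, b1, b2, b3, c1, c2, c3]

theorem dg_mem {t : Fˣ} (ht : (t : F) ∈ F₀) : hF.dg t 1 ∈ Herm.suG A ∧ Ratty F₀ (hF.dg t 1) := by
  obtain ⟨h1, h2, h3⟩ := hF.dg_apply t 1
  rw [Units.val_one, one_smul] at h2
  have hti : σ (t : F)⁻¹ = (t : F)⁻¹ := hF.fx (F₀.inv_mem ht)
  refine ⟨hF.mem_of_frame ?_ ?_, hF.ratty_of_frame one_ne_zero ?_ ?_ ?_⟩
  · intro i j
    fin_cases i <;> fin_cases j <;>
      simp [h1, h2, h3, hF.ee, hF.ff, hF.ef, hF.fe, hF.eu, hF.ue, hF.fu, hF.uf, hF.fx ht, hti]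
  · rw [hF.det_frame (hF.dg t 1) (a := t) (b := 1) (c := (t : F)⁻¹) (p := 0) (r := 0) (d := 0) h1 (by rw [h2]; simp)
      (by rw [h3]; simp), mul_one, mul_inv_cancel₀ t.ne_zero]
  · rw [one_smul, h1]; exact hF.re.smul ht
  · rw [one_smul, h2]; exact hF.ru
  · rw [one_smul, h3]; exact hF.rf.smul (F₀.inv_mem ht)

/-- the element exchanging the isotropic vectors -/
noncomputable def swp : (Fin 3 → F) ≃ₗ[F] (Fin 3 → F) :=
  LinearEquiv.ofInvolutive
    { toFun := fun x => A e x • e + (-(A u x / A u u)) • u + A f x • f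
      map_add' := fun x y => by simp only [map_add, add_smul, add_div, neg_add]; abel
      map_smul' := fun a x => by simp only [map_smul, smul_eq_mul, smul_add, smul_smul, RingHom.id_apply]; ring_nf }
    fun x => by
      obtain ⟨k1, k2, k3⟩ := hF.coords (A e x) (-(A u x / A u u)) (A f x)
      simp only [LinearMap.coe_mk, AddHom.coe_mk]
      rw [k1, k2, k3, mul_div_cancel_right₀ _ hF.qu, neg_neg]
      exact (hF.decomp x).symm

theorem swp_apply : hF.swp e = f ∧ hF.swp u = -u ∧ hF.swp f = e := by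
  refine ⟨?_, ?_, ?_⟩
  · show A e e • e + (-(A u e / A u u)) • u + A f e • f = _
    simp [hF.ee, hF.fe, hF.ue]
  · show A e u • e + (-(A u u / A u u)) • u + A f u • f = _
    simp [hF.fu, hF.eu, hF.qu]
  · show A e f • e + (-(A u f / A u u)) • u + A f f • f = _
    simp [hF.ff, hF.uf, hF.ef]

theorem swp_mem : hF.swp ∈ Herm.suG A ∧ Ratty F₀ hF.swp := by
  obtain ⟨h1, h2, h3⟩ := hF.swp_apply
  refine ⟨hF.mem_of_frame ?_ ?_, hF.ratty_of_frame one_ne_zero ?_ ?_ ?_⟩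
  · intro i j
    fin_cases i <;> fin_cases j <;>
      simp [h1, h2, h3, hF.ee, hF.ff, hF.ef, hF.fe, hF.eu, hF.ue, hF.fu, hF.uf]
  · rw [← LinearMap.det_toMatrix hF.bas, Matrix.det_fin_three]
    have hr : ∀ i j : Fin 3, hF.bas.repr (hF.bas j) i = if j = i then 1 else 0 := fun i j => hF.bas.repr_self_apply _ _
    have g1 : hF.swp (hF.bas 0) = hF.bas 2 := by simp [hF.bas_apply, h1]
    have g2 : hF.swp (hF.bas 1) = -hF.bas 1 := by simp [hF.bas_apply, h2]
    have g3 : hF.swp (hF.bas 2) = hF.bas 0 := by simp [hF.bas_apply, h3]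
    simp [LinearMap.toMatrix_apply, g1, g2, g3, hr]
  · rw [one_smul, h1]; exact hF.rf
  · rw [one_smul, h2]; exact hF.ru.neg
  · rw [one_smul, h3]; exact hF.re

theorem rhalf {r : F} (hr : r ∈ F₀) : A u u * r * r / 2 + σ (A u u * r * r / 2) = A (r • u) (r • u) := by
  simp only [map_smulₛₗ, LinearMap.smul_apply, RingHom.id_apply, smul_eq_mul, map_div₀, map_mul, hF.fqu, hF.fx hr,
    map_ofNat]
  field_simp [hF.two]
  ring

/-- the rational unipotent element -/
noncomputable def uni (_ : Fr F₀ A e u f) (r : F) : (Fin 3 → F) ≃ₗ[F] (Fin 3 → F) :=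
  sg A e (r • u) (A u u * r * r / 2)

theorem uni_apply (r : F) : hF.uni r e = e ∧ hF.uni r u = u - (σ r * A u u) • e ∧
    hF.uni r f = f + r • u - (A u u * r * r / 2) • e := by
  have h1 : A e (r • u) = 0 := by rw [map_smul, hF.eu, smul_zero]
  have h2 := (Herm.eq_zero_comm hF.herm).1 h1
  refine ⟨?_, ?_, ?_⟩ <;>
    simp [uni, sg_apply hF.ee h1 h2, hF.ee, hF.eu, hF.ue, hF.ef, hF.uf]

theorem uni_mem {r : F} (hr : r ∈ F₀) : hF.uni r ∈ Herm.suG A ∧ Ratty F₀ (hF.uni r) := by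
  obtain ⟨h1, h2, h3⟩ := hF.uni_apply r
  have he : A e (r • u) = 0 := by rw [map_smul, hF.eu, smul_zero]
  refine ⟨Unitary.mem_suG hF.herm (SU4.Sub.sg_iso hF.sym hF.ee he ((Herm.eq_zero_comm hF.herm).1 he) (hF.rhalf hr))
    (SU4.Sub.sg_det _ _ _), hF.ratty_of_frame one_ne_zero ?_ ?_ ?_⟩
  · rw [one_smul, h1]; exact hF.re
  · rw [one_smul, h2]; exact hF.ru.sub (hF.re.smul (F₀.mul_mem (by rw [hF.fx hr]; exact hr) hF.qu_mem))
  · rw [one_smul, h3]
    exact (hF.rf.add (hF.ru.smul hr)).sub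
      (hF.re.smul (F₀.div_mem (F₀.mul_mem (F₀.mul_mem hF.qu_mem hr) hr) hF.two_mem))

theorem uni_mul (r s : F) (hr : σ r = r) : hF.uni r * hF.uni s = hF.uni (r + s) := by
  rw [uni, uni, uni, SU4.Sub.sg_mul hF.ee (by simp [hF.eu]) (by simp [hF.ue]) (by simp [hF.eu]) (by simp [hF.ue]),
    ← add_smul]
  congr 1
  simp only [map_smulₛₗ, LinearMap.smul_apply, RingHom.id_apply, smul_eq_mul, hr]
  field_simp [hF.two]
  ring

theorem uni_zero : hF.uni 0 = 1 := by
  obtain ⟨h1, h2, h3⟩ := hF.uni_apply 0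
  exact hF.ext_frame h1 (by rw [h2]; simp) (by rw [h3]; simp)

theorem uni_inv {r : F} (hr : σ r = r) : (hF.uni r)⁻¹ = hF.uni (-r) :=
  inv_eq_of_mul_eq_one_right (by rw [hF.uni_mul r (-r) hr, add_neg_cancel, hF.uni_zero])

end Fr

end Cfsg.Agent.ClassicalMax.SU3.SO
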