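import Cfsg.Agent.ClassicalMax.SU3.SO.Orbit

/-!
No transitive overgroup over the fields with seven, nine or eleven elements: a Sylow subgroup for a large prime would
be centralised by a unipotent element fixing one point, or would have a normal complement of impossible order.
-/

set_option autoImplicit false
set_option linter.unusedSectionVars false
set_option linter.style.haveILetI false

namespace Cfsg.Agent.ClassicalMax.SU3.SO

open Module Cfsg.Agent.Classical Cfsg.Agent.ClassicalMax Cfsg.Agent.ClassicalMax.Subfield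
open Pointwise

variable {F : Type*} [Field F] [Fintype F] {σ : F →+* F} {F₀ : Subfield F}
  {A : (Fin 3 → F) →ₛₗ[σ] (Fin 3 → F) →ₗ[F] F} {e u f : Fin 3 → F} {ξ : F}
  {X : Subgroup ((Fin 3 → F) ≃ₗ[F] (Fin 3 → F))}

theorem div7 : ∀ n < 337, 336 % n = 0 → n % 43 = 1 → n = 1 := by decide +kernel
theorem div9 : ∀ n < 721, 720 % n = 0 → n % 73 = 1 → n = 1 := by decide +kernel
theorem div11 : ∀ k < 108, 3960 % (37 * k + 1) = 0 → k = 0 ∨ k = 107 := by decide +kernel

/-- the scalars are the cube roots of one of circle norm -/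
theorem card_zs {q : ℕ} (hF : Fintype.card F = q ^ 2) (hσq : ∀ x, σ x = x ^ q) :
    (q % 3 = 2 → Nat.card (zs σ) = 3) ∧ (q % 3 ≠ 2 → Nat.card (zs σ) = 1) := by
  have hmem : ∀ z : Fˣ, z ∈ zs σ ↔ z ^ 3 = 1 ∧ z ^ (q + 1) = 1 := fun z => by
    show (z : F) ^ 3 = 1 ∧ (z : F) * σ z = 1 ↔ _
    rw [hσq, ← pow_succ', Units.ext_iff, Units.ext_iff, Units.val_pow_eq_pow_val, Units.val_pow_eq_pow_val, Units.val_one]
  constructor
  · intro h
    have heq : zs σ = (powMonoidHom 3 : Fˣ →* Fˣ).ker := by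
      ext z
      rw [hmem, MonoidHom.mem_ker, powMonoidHom_apply]
      refine ⟨fun h => h.1, fun h1 => ⟨h1, ?_⟩⟩
      rw [show q + 1 = 3 * (q / 3 + 1) by omega, pow_mul, h1, one_pow]
    rw [heq, IsCyclic.card_powMonoidHom_ker, Nat.card_units, Nat.card_eq_fintype_card, hF]
    refine Nat.gcd_eq_right ?_
    have h2 : q ^ 2 % 3 = 1 := by rw [Nat.pow_mod, h]
    omega
  · intro h
    have hbot : zs σ = ⊥ := by
      rw [Subgroup.eq_bot_iff_forall]
      intro z hz
      rw [hmem] at hz
      have := pow_gcd_eq_one.2 hz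
      have hg : Nat.gcd 3 (q + 1) = 1 := by
        rcases (Nat.dvd_prime Nat.prime_three).1 (Nat.gcd_dvd_left 3 (q + 1)) with hh | hh
        · exact hh
        · have := Nat.gcd_dvd_right 3 (q + 1)
          rw [hh] at this
          omega
      rwa [hg, pow_one] at this
    rw [hbot, Subgroup.card_bot]

namespace Ov

variable (hO : Ov F₀ A e u f X)
include hO

/-- a normal subgroup of prime order fixes the point -/
theorem normal_fix (C : Subgroup X) [C.Normal] [IsCyclic C] : C ≤ MulAction.stabilizer X (F ∙ e) := by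
  haveI : Finite ((Fin 3 → F) ≃ₗ[F] (Fin 3 → F)) := Finite.of_injective _ DFunLike.coe_injective
  have hF := hO.toFr
  set t : X := ⟨hF.dg (-1) 1, hO.dg_memX (by simp [F₀.neg_mem F₀.one_mem])⟩ with ht
  have h12 : (-(1 : F) / 2) ∈ F₀ := F₀.div_mem (F₀.neg_mem F₀.one_mem) hF.two_mem
  set v : X := ⟨hF.uni (-(1 : F) / 2), hO.uni_memX h12⟩ with hv
  have hcomm : ((t * v * t⁻¹ * v⁻¹ : X) : (Fin 3 → F) ≃ₗ[F] (Fin 3 → F)) = hF.uni 1 := by
    have hd : hF.dg (-1) 1 * hF.uni (-(1 : F) / 2) = hF.uni ((1 : F) / 2) * hF.dg (-1) 1 := by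
      obtain ⟨a1, a2, a3⟩ := hF.uni_apply (-(1 : F) / 2)
      obtain ⟨b1, b2, b3⟩ := hF.uni_apply ((1 : F) / 2)
      obtain ⟨d1, d2, d3⟩ := hF.dg_apply (-1) 1
      rw [hF.fx h12] at a2
      rw [hF.fx (F₀.div_mem F₀.one_mem hF.two_mem)] at b2
      have := hF.two
      refine hF.ext_frame ?_ ?_ ?_ <;>
        simp only [LinearEquiv.mul_apply, a1, a2, a3, b1, b2, b3, d1, d2, d3, map_add, map_sub, map_smul, Units.val_one,
          Units.val_neg]
      · match_scalars <;> field_simp
      · match_scalars <;> field_simp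
    show hF.dg (-1) 1 * hF.uni (-(1 : F) / 2) * (hF.dg (-1) 1)⁻¹ * (hF.uni (-(1 : F) / 2))⁻¹ = _
    rw [hd, mul_inv_cancel_right, hF.uni_inv (hF.fx h12), hF.uni_mul _ _ (hF.fx (F₀.div_mem F₀.one_mem hF.two_mem))]
    congr 1
    have := hF.two
    field_simp
    ring
  intro c hc
  let φ : X →* MulAut C := MulAut.conjNormal
  have hab : ∀ a b : MulAut C, a * b = b * a := fun a b =>
    (IsCyclic.mulAutMulEquiv (G := C)).injective (by rw [map_mul, map_mul, mul_comm])
  have hone : φ (t * v * t⁻¹ * v⁻¹) = 1 := by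
    rw [map_mul, map_mul, map_mul, map_inv, map_inv, hab (φ t), mul_inv_cancel_right, mul_inv_cancel]
  set w : X := t * v * t⁻¹ * v⁻¹ with hw
  have hwc : w * c * w⁻¹ = c := by
    have := congrArg (fun a : MulAut C => ((a ⟨c, hc⟩ : C) : X)) hone
    simpa [φ, MulAut.conjNormal_apply] using this
  have hfix : hF.uni 1 (c.1 e) = c.1 e := by
    have h := congrArg (fun x : X => x.1) (mul_inv_eq_iff_eq_mul.1 hwc)
    simp only [Subgroup.coe_mul, hcomm] at h
    have h' := DFunLike.congr_fun h e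
    rwa [LinearEquiv.mul_apply, LinearEquiv.mul_apply, (hF.uni_apply 1).1] at h'
  rw [MulAction.mem_stabilizer_iff, smul_line]
  obtain ⟨a1, a2, a3⟩ := hF.uni_apply 1
  have h := hfix
  rw [hF.decomp (c.1 e), map_add, map_add, map_smul, map_smul, map_smul, a1, a2, a3, map_one, one_mul, one_smul] at h
  have h1 := congrArg (A u) h
  have h2 := congrArg (A f) h
  simp [hF.ue, hF.uf, hF.fe, hF.fu, hF.ff, hF.qu] at h1 h2
  have hγ : A e (c.1 e) = 0 := by
    first | exact h1 | exact mul_right_cancel₀ hF.qu (by linear_combination h1)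
  rw [hγ] at h2
  have hβ : A u (c.1 e) = 0 := by
    first | exact h2 | (simp [hF.qu] at h2; exact h2) | linear_combination -h2
  refine line_eq (fun h => hF.e0 (c.1.map_eq_zero_iff.1 h)) (a := A f (c.1 e)) ?_
  conv_lhs => rw [hF.decomp (c.1 e)]
  rw [hγ, hβ, zero_div, zero_smul, zero_smul, add_zero, add_zero]

/-- the number of Sylow subgroups divides the order of a complement -/
theorem sylow_facts {r n₀ : ℕ} [Fact r.Prime] (hcard : Nat.card X = r * n₀) (hr : ¬ r ∣ n₀) (P : Sylow r X) :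
    Nat.card P = r ∧ Nat.card (Sylow r X) % r = 1 % r ∧
      Nat.card (Sylow r X) * Nat.card (Subgroup.normalizer ((P : Subgroup X) : Set X)) = r * n₀ ∧
      Nat.card (Sylow r X) ∣ n₀ := by
  haveI : Finite ((Fin 3 → F) ≃ₗ[F] (Fin 3 → F)) := Finite.of_injective _ DFunLike.coe_injective
  have hp := (Fact.out : r.Prime)
  have hn0 : n₀ ≠ 0 := fun h => hr (h ▸ dvd_zero r)
  have hPc : Nat.card P = r := by
    rw [P.card_eq_multiplicity, hcard, Nat.factorization_mul hp.ne_zero hn0, Finsupp.add_apply, hp.factorization_self,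
      Nat.factorization_eq_zero_of_not_dvd hr, add_zero, pow_one]
  have hmul : Nat.card (Sylow r X) * Nat.card (Subgroup.normalizer ((P : Subgroup X) : Set X)) = r * n₀ := by
    rw [P.card_eq_index_normalizer, ← hcard]
    exact Subgroup.index_mul_card _
  refine ⟨hPc, card_sylow_modEq_one r X, hmul, ?_⟩
  have hdvd : r ∣ Nat.card (Subgroup.normalizer ((P : Subgroup X) : Set X)) := by
    conv_lhs => rw [← hPc]
    exact Subgroup.card_dvd_of_le Subgroup.le_normalizer
  obtain ⟨k, hk⟩ := hdvd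
  exact ⟨k, Nat.eq_of_mul_eq_mul_left hp.pos (by rw [← hmul, hk]; ring)⟩

/-- a unique Sylow subgroup of large prime order is impossible -/
theorem one_sylow {r : ℕ} [Fact r.Prime] (hr : ¬ r ∣ Nat.card (zs σ) * Nat.card F₀ˣ * Nat.card F₀) (P : Sylow r X)
    (hP : Nat.card P = r) (h1 : Nat.card (Sylow r X) = 1) : False := by
  haveI : Finite ((Fin 3 → F) ≃ₗ[F] (Fin 3 → F)) := Finite.of_injective _ DFunLike.coe_injective
  haveI : Subsingleton (Sylow r X) := (Nat.card_eq_one_iff_unique.1 h1).1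
  haveI : (P : Subgroup X).Normal := P.normal_of_subsingleton
  haveI : IsCyclic (P : Subgroup X) := isCyclic_of_prime_card hP
  refine hr ?_
  rw [← hP, ← hO.card_stab]
  exact Subgroup.card_dvd_of_le (hO.normal_fix P)

variable (hx0 : ξ ≠ 0) (hxs : σ ξ = -ξ)
include hx0 hxs

/-- no transitive overgroup over the small fields -/
theorem small_false {q : ℕ} (hF : Fintype.card F = q ^ 2) (hσq : ∀ x, σ x = x ^ q) (hq : Nat.card F₀ = q)
    (hsmall : q = 7 ∨ q = 9 ∨ q = 11) (hSU : Nat.card (Herm.suG A) = q ^ 3 * (q ^ 3 + 1) * (q ^ 2 - 1))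
    (hcard : Nat.card X = (q ^ 3 + 1) * (Nat.card (zs σ) * (q - 1) * q)) : False := by
  classical
  haveI : Finite ((Fin 3 → F) ≃ₗ[F] (Fin 3 → F)) := Finite.of_injective _ DFunLike.coe_injective
  have hU : Nat.card F₀ˣ = q - 1 := by rw [Nat.card_units, hq]
  obtain ⟨hz3, hz1⟩ := card_zs (σ := σ) hF hσq
  rcases hsmall with rfl | rfl | rfl
  · rw [hz1 (by norm_num)] at hcard
    haveI : Fact (Nat.Prime 43) := ⟨by norm_num⟩
    obtain ⟨P⟩ := Sylow.nonempty (p := 43) (G := X)
    obtain ⟨hP, hmod, -, hdvd⟩ := hO.sylow_facts (r := 43) (n₀ := 336) (by rw [hcard]; norm_num) (by norm_num) P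
    refine hO.one_sylow (by rw [hz1 (by norm_num), hU, hq]; norm_num) P hP
      (div7 _ (Nat.lt_succ_of_le (Nat.le_of_dvd (by norm_num) hdvd)) (Nat.mod_eq_zero_of_dvd hdvd) (by simpa using hmod))
  · rw [hz1 (by norm_num)] at hcard
    haveI : Fact (Nat.Prime 73) := ⟨by norm_num⟩
    obtain ⟨P⟩ := Sylow.nonempty (p := 73) (G := X)
    obtain ⟨hP, hmod, -, hdvd⟩ := hO.sylow_facts (r := 73) (n₀ := 720) (by rw [hcard]; norm_num) (by norm_num) P
    refine hO.one_sylow (by rw [hz1 (by norm_num), hU, hq]; norm_num) P hP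
      (div9 _ (Nat.lt_succ_of_le (Nat.le_of_dvd (by norm_num) hdvd)) (Nat.mod_eq_zero_of_dvd hdvd) (by simpa using hmod))
  · have hz := hz3 (by norm_num)
    rw [hz] at hcard
    haveI : Fact (Nat.Prime 37) := ⟨by norm_num⟩
    haveI : Fact (Nat.Prime 3) := ⟨Nat.prime_three⟩
    obtain ⟨P⟩ := Sylow.nonempty (p := 37) (G := X)
    obtain ⟨hP, hmod, hmul, hdvd⟩ := hO.sylow_facts (r := 37) (n₀ := 11880) (by rw [hcard]; norm_num) (by norm_num) P
    set N := Subgroup.normalizer ((P : Subgroup X) : Set X) with hN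
    set Z := Subgroup.centralizer ((P : Subgroup X) : Set X) with hZ
    obtain ⟨z, hz'⟩ := exists_prime_orderOf_dvd_card' (G := zs σ) 3 (by rw [hz])
    let zc : X := ⟨sc3 z.1, hO.sc3_memX z.2⟩
    have hzcZ : zc ∈ Z := fun y _ => Subtype.ext (sc3_comm z.1 y.1)
    have hzo : orderOf zc = 3 := by
      refine orderOf_eq_prime (Subtype.ext ?_) fun h => ?_
      · show sc3 z.1 ^ 3 = 1
        refine LinearEquiv.ext fun x => ?_
        rw [pow_succ, pow_two, LinearEquiv.mul_apply, LinearEquiv.mul_apply, sc3_apply, sc3_apply, sc3_apply, smul_smul,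
          smul_smul, show (z.1 : F) * z.1 * z.1 = 1 by rw [← pow_two, ← pow_succ]; exact z.2.1, one_smul]
        rfl
      · have h1 : sc3 z.1 = 1 := congrArg Subtype.val h
        have h2 := DFunLike.congr_fun h1 e
        rw [sc3_apply] at h2
        have h3 : z = 1 := Subtype.ext (Units.ext (smul_left_injective F hO.toFr.e0 (h2.trans (one_smul F e).symm)))
        rw [h3, orderOf_one] at hz'
        norm_num at hz'
    have hPZ : (P : Subgroup X) ≤ Z := fun x hx y hy => by
      haveI : IsCyclic (P : Subgroup X) := isCyclic_of_prime_card hP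
      exact congrArg Subtype.val (IsCyclic.commGroup.mul_comm (⟨y, hy⟩ : (P : Subgroup X)) ⟨x, hx⟩)
    have hZN : Z ≤ N := Subgroup.centralizer_le_normalizer _
    have h37 : 37 ∣ Nat.card Z := by
      conv_lhs => rw [← hP]
      exact Subgroup.card_dvd_of_le hPZ
    have h3Z : 3 ∣ Nat.card Z := by
      have := Subgroup.orderOf_dvd_natCard Z hzcZ
      rwa [hzo] at this
    have h111 : 111 ∣ Nat.card Z := Nat.Coprime.mul_dvd_of_dvd_of_dvd (by norm_num : Nat.Coprime 37 3) h37 h3Z
    set n := Nat.card (Sylow 37 X) with hn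
    have hn3960 : n ∣ 3960 := by
      obtain ⟨k, hk⟩ := h111.trans (Subgroup.card_dvd_of_le hZN)
      exact ⟨k, by rw [hk] at hmul; have : n * k * 111 = 3960 * 111 := by linarith
                   omega⟩
    have hle := Nat.le_of_dvd (by norm_num) hn3960
    have hn1 : n % 37 = 1 := by simpa using hmod
    rcases div11 (n / 37) (by omega) (by
      rw [show 37 * (n / 37) + 1 = n by omega]; exact Nat.mod_eq_zero_of_dvd hn3960) with h | h
    · exact hO.one_sylow (by rw [hz, hU, hq]; norm_num) P hP (by omega)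
    -- self-centralising Sylow subgroup: a normal complement
    have hn' : n = 3960 := by omega
    rw [hn'] at hmul
    have hN111 : Nat.card N = 111 := by omega
    have hNZ : N ≤ Z := (Subgroup.eq_of_le_of_card_ge hZN
      (hN111 ▸ Nat.le_of_dvd Nat.card_pos h111)).ge
    have hcompl := MonoidHom.ker_transferSylow_isComplement' P hNZ
    set K := (MonoidHom.transferSylow P hNZ).ker with hK
    have hKc : Nat.card K = 11880 := by
      have := hcompl.card_mul
      rw [hP, hcard] at this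
      omega
    have hindex : K.index = 37 := by
      have := K.index_mul_card
      rw [hKc, hcard] at this
      omega
    set K' := K.map X.subtype with hK'
    have hK'c : Nat.card K' = 11880 := by rw [hK', Subgroup.card_subtype, hKc]
    have hR : Ov F₀ A e u f (X ⊓ rty F₀) :=
      { toFr := hO.toFr
        le := inf_le_left.trans hO.le
        rat := fun x hx hr => ⟨hO.rat x hx hr, mem_rty.2 hr⟩
        nt := fun c hc hX => hO.nt c hc hX.1 }
    have hcR := hR.card_eq hx0 hxs
    rw [hq, hU, hR.par_ratty hx0 hxs fun x hx => mem_rty.1 hx.2, hz] at hcR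
    have hrat : ∀ g ∈ Herm.suG A, Ratty F₀ g → g ∈ K' := fun g hg hr => by
      have hgX := hO.rat g hg hr
      refine ⟨⟨g, hgX⟩, ?_, rfl⟩
      have hp : g ^ 3960 = 1 := by
        have := congrArg Subtype.val (pow_card_eq_one' (x := (⟨g, hgX, mem_rty.2 hr⟩ : ↥(X ⊓ rty F₀))))
        rw [hcR] at this
        exact this
      have h1 : (⟨g, hgX⟩ : X) ^ K.index ∈ K := K.pow_index_mem _
      rw [hindex] at h1
      have h2 : (⟨g, hgX⟩ : X) ^ 3960 = 1 := Subtype.ext hp
      have h4 := K.pow_mem h1 3853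
      rwa [← pow_mul, show 37 * 3853 = 3960 * 36 + 1 by norm_num, pow_succ, pow_mul, h2, one_pow, one_mul] at h4
    have hO' : Ov F₀ A e u f K' :=
      { toFr := hO.toFr
        le := (Subgroup.map_subtype_le _).trans hO.le
        rat := hrat
        nt := fun c hc hX => hO.nt c hc (Subgroup.map_subtype_le _ hX) }
    rcases hO'.dichotomy hx0 hxs hq (by decide) (by norm_num) hSU with h | ⟨h, -⟩
    · have := hO'.card_eq hx0 hxs
      rw [hq, hU, hO'.par_ratty hx0 hxs h, hz, hK'c] at this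
      norm_num at this
    · rw [hK'c, hz] at h
      norm_num at h

end Ov

end Cfsg.Agent.ClassicalMax.SU3.SO
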