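import Cfsg.Agent.ClassicalMax.SU3.SO.Pair
import Cfsg.Agent.ClassicalMax.SU3.SO.Small
import Cfsg.Agent.ClassicalMax.SU3.Singer.Bridge
import Cfsg.Agent.ClassicalMax.SU4.SubOdd

/-!
The orthogonal subfield groups are maximal in the three-dimensional special unitary groups.
-/

set_option autoImplicit false
set_option linter.unusedSectionVars false
set_option linter.style.haveILetI false

namespace Cfsg.Agent.ClassicalMax.SU3.SO

open Module Cfsg.Agent.Classical Cfsg.Agent.ClassicalMax Cfsg.Agent.ClassicalMax.Subfield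
open Cfsg.Agent.ClassicalMax.SU4.Sub (Tv Tv_apply)

variable {F : Type*} [Field F] [Fintype F] {σ : F →+* F} {F₀ : Subfield F}
  {A : (Fin 3 → F) →ₛₗ[σ] (Fin 3 → F) →ₗ[F] F}

/-- a rational isotropic vector -/
theorem exists_sing (hA : Herm.IsHerm A) (hfix : ∀ a, a ∈ F₀ ↔ σ a = a) (h2 : (2 : F) ≠ 0)
    (hform : ∀ a b : Fin 3 → F, RV F₀ a → RV F₀ b → A a b ∈ F₀) : ∃ e, RV F₀ e ∧ e ≠ 0 ∧ A e e = 0 := by
  classical
  haveI : Fintype F₀ := Fintype.ofFinite F₀
  by_contra hno
  push Not at hno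
  have sym : ∀ {a b : Fin 3 → F}, RV F₀ a → RV F₀ b → A b a = A a b := fun ha hb => by
    rw [← hA.symm]; exact (hfix _).1 (hform _ _ ha hb)
  obtain ⟨a, ha, ha0⟩ : ∃ a : Fin 3 → F, RV F₀ a ∧ a ≠ 0 :=
    ⟨_, rv_single 0, fun h => by simpa using congrFun h 0⟩
  have qa := hno a ha ha0
  obtain ⟨i, hi⟩ : ∃ i : Fin 3, Pi.single i (1 : F) - (A a (Pi.single i 1) / A a a) • a ≠ 0 := by
    by_contra! hc
    have htop : (⊤ : Submodule F (Fin 3 → F)) ≤ F ∙ a := fun x _ => by
      rw [eq_sum_single x]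
      exact sum_mem fun i _ => Submodule.smul_mem _ _ (Submodule.mem_span_singleton.2 ⟨_, (sub_eq_zero.1 (hc i)).symm⟩)
    have := Submodule.finrank_mono htop
    rw [finrank_top, Module.finrank_fin_fun, finrank_span_singleton ha0] at this
    omega
  set b := Pi.single i (1 : F) - (A a (Pi.single i 1) / A a a) • a with hb
  have hbR : RV F₀ b := (rv_single i).sub (ha.smul (F₀.div_mem (hform _ _ ha (rv_single i)) (hform _ _ ha ha)))
  have hab : A a b = 0 := by rw [hb, map_sub, map_smul, smul_eq_mul, div_mul_cancel₀ _ qa, sub_self]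
  have qb := hno b hbR hi
  have hba : A b a = 0 := by rw [sym ha hbR, hab]
  obtain ⟨j, hj⟩ : ∃ j : Fin 3, Pi.single j (1 : F) - (A a (Pi.single j 1) / A a a) • a -
      (A b (Pi.single j 1) / A b b) • b ≠ 0 := by
    by_contra! hc
    have htop : (⊤ : Submodule F (Fin 3 → F)) ≤ Submodule.span F {a, b} := fun x _ => by
      rw [eq_sum_single x]
      exact sum_mem fun j _ => Submodule.smul_mem _ _ (Submodule.mem_span_pair.2 ⟨_, _, by
        have := hc j; rw [sub_sub, sub_eq_zero] at this; exact this.symm⟩)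
    have := Submodule.finrank_mono htop
    have h := finrank_span_le_card (R := F) ({a, b} : Set (Fin 3 → F))
    rw [finrank_top, Module.finrank_fin_fun] at this
    have : ({a, b} : Set (Fin 3 → F)).toFinset.card ≤ 2 := by
      rw [Set.toFinset_insert, Set.toFinset_singleton]; exact Finset.card_le_two
    omega
  set c := Pi.single j (1 : F) - (A a (Pi.single j 1) / A a a) • a - (A b (Pi.single j 1) / A b b) • b with hcd
  have hcR : RV F₀ c := ((rv_single j).sub (ha.smul (F₀.div_mem (hform _ _ ha (rv_single j)) (hform _ _ ha ha)))).sub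
    (hbR.smul (F₀.div_mem (hform _ _ hbR (rv_single j)) (hform _ _ hbR hbR)))
  have hac : A a c = 0 := by
    rw [hcd, map_sub, map_sub, map_smul, map_smul, hab, smul_zero, sub_zero, smul_eq_mul, div_mul_cancel₀ _ qa, sub_self]
  have hbc : A b c = 0 := by
    rw [hcd, map_sub, map_sub, map_smul, map_smul, hba, smul_zero, sub_zero, smul_eq_mul, div_mul_cancel₀ _ qb, sub_self]
  have qc := hno c hcR hj
  have hca : A c a = 0 := by rw [sym ha hcR, hac]
  have hcb : A c b = 0 := by rw [sym hbR hcR, hbc]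
  -- a quadratic equation
  have h20 : (2 : F₀) ≠ 0 := fun e0 => h2 (congrArg Subtype.val e0)
  set α : F₀ := ⟨A a a, hform _ _ ha ha⟩
  set β : F₀ := ⟨A b b, hform _ _ hbR hbR⟩
  set γ : F₀ := ⟨A c c, hform _ _ hcR hcR⟩
  have hα : α ≠ 0 := fun h => qa (congrArg Subtype.val h)
  have hβ : β ≠ 0 := fun h => qb (congrArg Subtype.val h)
  have hodd : Fintype.card F₀ % 2 = 1 := FiniteField.odd_card_of_char_ne_two fun e => h20 (by
    haveI := ringChar.of_eq e
    exact CharTwo.two_eq_zero)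
  obtain ⟨s, t, hst⟩ := FiniteField.exists_root_sum_quadratic
    (f := Polynomial.C α * Polynomial.X ^ 2) (g := Polynomial.C β * Polynomial.X ^ 2 + Polynomial.C γ)
    (Polynomial.degree_C_mul_X_pow 2 hα) (by
      rw [Polynomial.degree_add_C (by rw [Polynomial.degree_C_mul_X_pow 2 hβ]; norm_num),
        Polynomial.degree_C_mul_X_pow 2 hβ]
      rfl) hodd
  simp only [Polynomial.eval_mul, Polynomial.eval_C, Polynomial.eval_pow, Polynomial.eval_X, Polynomial.eval_add] at hst
  have hst' := congrArg Subtype.val hst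
  push_cast at hst'
  refine hno ((s : F) • a + (t : F) • b + c) (((ha.smul s.2).add (hbR.smul t.2)).add hcR) (fun h => qc ?_) ?_
  · have := congrArg (A c) h
    simpa [hca, hcb] using this
  · simp [hab, hba, hac, hca, hbc, hcb, (hfix _).1 s.2, (hfix _).1 t.2]
    linear_combination hst'

/-- a rational frame exists -/
theorem exists_frame (hA : Herm.IsHerm A) (hfix : ∀ a, a ∈ F₀ ↔ σ a = a) (h2 : (2 : F) ≠ 0)
    (hform : ∀ a b : Fin 3 → F, RV F₀ a → RV F₀ b → A a b ∈ F₀) : ∃ e u f, Fr F₀ A e u f := by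
  classical
  obtain ⟨e, he, he0, hee⟩ := exists_sing hA hfix h2 hform
  have h2F : (2 : F) ∈ F₀ := by rw [← one_add_one_eq_two]; exact F₀.add_mem F₀.one_mem F₀.one_mem
  obtain ⟨i, hi⟩ : ∃ i, A e (Pi.single i 1) ≠ 0 := by
    by_contra! h
    exact he0 (hA.nondeg _ fun y => by
      rw [eq_sum_single y, map_sum]
      exact Finset.sum_eq_zero fun i _ => by rw [map_smul, h, smul_zero])
  set w := (A e (Pi.single i 1))⁻¹ • Pi.single i (1 : F) with hw
  have hwR : RV F₀ w := (rv_single i).smul (F₀.inv_mem (hform _ _ he (rv_single i)))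
  have hew : A e w = 1 := by rw [hw, map_smul, smul_eq_mul, inv_mul_cancel₀ hi]
  have hwe : A w e = 1 := by rw [← hA.symm, hew, map_one]
  have hww := (hfix _).1 (hform _ _ hwR hwR)
  set f := w - (A w w / 2) • e with hf
  have hfR : RV F₀ f := hwR.sub (he.smul (F₀.div_mem (hform _ _ hwR hwR) h2F))
  have hef : A e f = 1 := by simp [hf, hew, hee]
  have hfe : A f e = 1 := by rw [← hA.symm, hef, map_one]
  have hff : A f f = 0 := by
    simp [hf, hew, hwe, hee, hww, map_ofNat]
    field_simp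
    ring
  have hfj : ∀ j, RV F₀ (Pi.single j (1 : F) - A f (Pi.single j 1) • e - A e (Pi.single j 1) • f) := fun j =>
    ((rv_single j).sub (he.smul (hform _ _ hfR (rv_single j)))).sub (hfR.smul (hform _ _ he (rv_single j)))
  obtain ⟨j, hj⟩ : ∃ j : Fin 3, Pi.single j (1 : F) - A f (Pi.single j 1) • e - A e (Pi.single j 1) • f ≠ 0 := by
    by_contra! hc
    have htop : (⊤ : Submodule F (Fin 3 → F)) ≤ Submodule.span F {e, f} := fun x _ => by
      rw [eq_sum_single x]
      exact sum_mem fun j _ => Submodule.smul_mem _ _ (Submodule.mem_span_pair.2 ⟨_, _, by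
        have := hc j; rw [sub_sub, sub_eq_zero] at this; exact this.symm⟩)
    have := Submodule.finrank_mono htop
    have h := finrank_span_le_card (R := F) ({e, f} : Set (Fin 3 → F))
    rw [finrank_top, Module.finrank_fin_fun] at this
    have : ({e, f} : Set (Fin 3 → F)).toFinset.card ≤ 2 := by
      rw [Set.toFinset_insert, Set.toFinset_singleton]; exact Finset.card_le_two
    omega
  set u := Pi.single j (1 : F) - A f (Pi.single j 1) • e - A e (Pi.single j 1) • f with hu
  have heu : A e u = 0 := by simp [hu, hee, hef]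
  have hfu : A f u = 0 := by simp [hu, hfe, hff]
  refine ⟨e, u, f, hA, hfix, h2, hform, he, hfj j, hfR, hee, hff, hef, heu, hfu, fun huu => hj ?_⟩
  have hue := (Herm.eq_zero_comm hA).1 heu
  have huf := (Herm.eq_zero_comm hA).1 hfu
  have hli : LinearIndependent F ![e, u, f] := by
    rw [Fintype.linearIndependent_iff]
    intro g hg
    rw [Fin.sum_univ_three] at hg
    replace hg : g 0 • e + g 1 • u + g 2 • f = 0 := hg
    have h1 := congrArg (A e) hg
    have h3 := congrArg (A f) hg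
    simp [hee, hff, hef, hfe, heu, hfu] at h1 h3
    rw [h1, h3, zero_smul, zero_smul, add_zero, zero_add, smul_eq_zero] at hg
    have h1' := hg.resolve_right hj
    intro k
    fin_cases k <;> assumption
  refine hA.nondeg _ fun y => ?_
  have htop := hli.span_eq_top_of_card_eq_finrank' (by rw [Fintype.card_fin, Module.finrank_fin_fun])
  obtain ⟨g, rfl⟩ := (Submodule.mem_span_range_iff_exists_fun F).1 (htop ▸ Submodule.mem_top : y ∈ _)
  simp [Fin.sum_univ_three, hue, huf, huu]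

/-- all isotropic vectors are centres of a proper overgroup -/
theorem all_centres {e u f : Fin 3 → F} (hF : Fr F₀ A e u f) {q : ℕ} (hFc : Fintype.card F = q ^ 2)
    (hσq : ∀ x, σ x = x ^ q) (hq : Nat.card F₀ = q) (hodd : Odd q) (h7 : 7 ≤ q)
    (hSU : Nat.card (Herm.suG A) = q ^ 3 * (q ^ 3 + 1) * (q ^ 2 - 1))
    {X : Subgroup ((Fin 3 → F) ≃ₗ[F] (Fin 3 → F))} (hle : X ≤ Herm.suG A)
    (hrat : ∀ g ∈ Herm.suG A, Ratty F₀ g → g ∈ X) (hout : ∃ g ∈ X, ¬ Ratty F₀ g) :
    ∀ v, A v v = 0 → v ∈ Unitary.centres A X := by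
  classical
  haveI : Fintype F₀ := Fintype.ofFinite F₀
  by_cases hnt : ∀ c : F, c + σ c = 0 → Tv A e c ∈ X → c = 0
  · exfalso
    obtain ⟨ξ', hξ'⟩ := Herm.exists_moved hF.herm.toIsInvol
    set ξ := ξ' - σ ξ' with hξ
    have hx0 : ξ ≠ 0 := sub_ne_zero.2 (Ne.symm hξ')
    have hxs : σ ξ = -ξ := by rw [hξ, map_sub, hF.invol, neg_sub]
    have hO : Ov F₀ A e u f X := ⟨hF, hle, hrat, hnt⟩
    rcases hO.dichotomy hx0 hxs hq hodd h7 hSU with h | ⟨hcard, htr⟩
    · obtain ⟨g, hg, hgr⟩ := hout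
      exact hgr (h g hg)
    · have h11 := hO.pair_false hxs hx0 htr
      rw [← Nat.card_eq_fintype_card, hq] at h11
      refine hO.small_false hx0 hxs hFc hσq hq ?_ hSU hcard
      obtain ⟨k, rfl⟩ := hodd
      omega
  push Not at hnt
  obtain ⟨c, hc, hcX, hc0⟩ := hnt
  have hiso : ∀ g ∈ X, ∀ x y, A (g x) (g y) = A x y := fun g hg => (hle hg).1
  -- the point is a centre
  have hsq : ∀ x : F₀, Tv A e (c * (x * x : F₀)) ∈ X := fun x => by
    by_cases hx : x = 0
    · rw [hx, mul_zero, ZeroMemClass.coe_zero, mul_zero, SU4.Sub.Tv_zero hF.ee]; exact one_mem _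
    have hx0 : (x : F) ≠ 0 := fun h => hx (Subtype.ext h)
    have hd := hrat _ (hF.dg_mem (t := Units.mk0 _ hx0) x.2).1 (hF.dg_mem (t := Units.mk0 _ hx0) x.2).2
    have h := mul_mem (mul_mem hd hcX) (inv_mem hd)
    rw [SU4.Sub.Tv_conj (hiso _ hd) hF.ee, (hF.dg_apply _ 1).1, SU4.Sub.Tv_smul hF.ee, Units.val_mk0, hF.fx x.2] at h
    push_cast
    exact h
  have h20 : (2 : F₀) ≠ 0 := fun e0 => hF.two (congrArg Subtype.val e0)
  have hodd' : Fintype.card F₀ % 2 = 1 := FiniteField.odd_card_of_char_ne_two fun e => h20 (by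
    haveI := ringChar.of_eq e
    exact CharTwo.two_eq_zero)
  have he : e ∈ Unitary.centres A X := ⟨hF.ee, fun hv c' hc' => by
    have hr : c' / c ∈ F₀ := (hF.fix _).2 (by
      rw [map_div₀, eq_neg_of_add_eq_zero_right hc', eq_neg_of_add_eq_zero_right hc, neg_div_neg_eq])
    obtain ⟨s, t, hst⟩ := FiniteField.exists_root_sum_quadratic
      (f := (Polynomial.X : Polynomial F₀) ^ 2) (g := (Polynomial.X : Polynomial F₀) ^ 2 + Polynomial.C (-⟨_, hr⟩))
      (Polynomial.degree_X_pow 2) (Polynomial.degree_X_pow_add_C (by norm_num) _) hodd'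
    simp only [Polynomial.eval_pow, Polynomial.eval_X, Polynomial.eval_add, Polynomial.eval_C] at hst
    have hst' := congrArg Subtype.val hst
    push_cast at hst'
    have h := mul_mem (hsq s) (hsq t)
    rw [← SU4.Sub.Tv_add hF.ee] at h
    rw [← SU4.Sub.Tv_eq hv]
    convert h using 2
    push_cast
    field_simp at hst'
    linear_combination -hst'⟩
  refine centres_of_irreducible hF.herm (Module.finrank_fin_fun F) hiso (fun U hU => ?_) he hF.e0
  by_cases hb : U = ⊥
  · exact Or.inl hb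
  refine Or.inr (eq_top_iff.2 fun x _ => ?_)
  have hu1 := hrat _ (hF.uni_mem F₀.one_mem).1 (hF.uni_mem F₀.one_mem).2
  obtain ⟨a1, a2, a3⟩ := hF.uni_apply 1
  rw [map_one, one_mul] at a2
  rw [one_smul] at a3
  have hN : ∀ v, hF.uni 1 v - v = (-(A u v) - A e v * (A u u * 1 * 1 / 2)) • e + A e v • u := fun v => by
    conv_lhs => rw [hF.decomp v]
    rw [map_add, map_add, map_smul, map_smul, map_smul, a1, a2, a3]
    have := hF.qu
    match_scalars <;> field_simp <;> ring
  have heU : e ∈ U := by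
    obtain ⟨v, hv, hv0⟩ := Submodule.exists_mem_ne_zero_of_ne_bot hb
    have h1 : hF.uni 1 v - v ∈ U := U.sub_mem (hU _ hu1 v hv) hv
    by_cases hev : A e v = 0
    · by_cases huv : A u v = 0
      · rw [hF.decomp v, hev, huv, zero_div, zero_smul, zero_smul, add_zero, add_zero] at hv
        refine (Submodule.smul_mem_iff _ ?_).1 hv
        intro h
        refine hv0 ?_
        rw [hF.decomp v, hev, huv, h]
        simp
      · rw [hN, hev, zero_mul, sub_zero, zero_smul, add_zero] at h1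
        exact (Submodule.smul_mem_iff _ (neg_ne_zero.2 huv)).1 h1
    · have h2 : hF.uni 1 (hF.uni 1 v - v) - (hF.uni 1 v - v) ∈ U := U.sub_mem (hU _ hu1 _ h1) h1
      set w := hF.uni 1 v - v with hw
      have hew : A e w = 0 := by rw [hw, hN]; simp [hF.ee, hF.eu]
      have huw : A u w = A e v * A u u := by rw [hw, hN]; simp [hF.ue]
      rw [hN w, hew, huw, zero_mul, sub_zero, zero_smul, add_zero] at h2
      exact (Submodule.smul_mem_iff _ (neg_ne_zero.2 (mul_ne_zero hev hF.qu))).1 h2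
  have hfU : f ∈ U := hF.swp_apply.1 ▸ hU _ (hrat _ hF.swp_mem.1 hF.swp_mem.2) e heU
  have huU : u ∈ U := by
    have h := hU _ hu1 f hfU
    rw [a3] at h
    rw [show u = (f + u - (A u u * 1 * 1 / 2) • e) - f + (A u u * 1 * 1 / 2) • e by abel]
    exact U.add_mem (U.sub_mem h hfU) (U.smul_mem _ heU)
  rw [hF.decomp x]
  exact U.add_mem (U.add_mem (U.smul_mem _ heU) (U.smul_mem _ huU)) (U.smul_mem _ hfU)

/-- orthogonal subfield groups -/
theorem isMaximal {F : Type*} [Field F] [Fintype F] (q : ℕ) (hF : Fintype.card F = q ^ 2) (hodd : Odd q) (h7 : 7 ≤ q)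
    (F₀ : Subfield F) (P : Matrix.GeneralLinearGroup (Fin 3) F) (hcard : Fintype.card F = Nat.card F₀ ^ 2)
    (hP : Cfsg.Geo.IsFormRationalStructure (Cfsg.hermForm 3 F q) F₀ 1 P) :
    Cfsg.Geo.IsMaximalIn (Cfsg.GU 3 F q ⊓ Cfsg.Geo.specialLinear (Fin 3) F)
      (Cfsg.Geo.subfieldSubgroup F₀ P ⊓ (Cfsg.GU 3 F q ⊓ Cfsg.Geo.specialLinear (Fin 3) F)) := by
  classical
  obtain ⟨σ, hσq, hσ, hFq, -⟩ := exists_powHom hF
  have hfix := SU4.Sub.mem_iff_fix hσ hcard hσq hF
  have hq0 : Nat.card F₀ = q := (Nat.pow_left_injective (by norm_num) (hcard.symm.trans hF))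
  have h2 : (2 : F) ≠ 0 := fun h => by
    have hr : ringChar F = 2 := by
      haveI : CharP F 2 := CharTwo.of_one_ne_zero_of_two_eq_zero one_ne_zero h
      exact ringChar.eq F 2
    have := FiniteField.even_card_iff_char_two.1 hr
    rw [hF] at this
    have h3 := hodd.pow (n := 2)
    rw [Nat.odd_iff] at h3
    omega
  have hB := hermB_isHerm (n := 3) hσ
  set ep : (Fin 3 → F) ≃ₗ[F] (Fin 3 → F) := glEquiv (Fin 3) F P with hep
  set A := Subfield.Unit.formP (n := 3) σ 1 P with hAd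
  have hA : ∀ x y, A x y = hermB 3 σ (ep x) (ep y) := fun x y => one_mul _
  have hAH : Herm.IsHerm A :=
    { toIsInvol := hσ
      symm := fun a b => by rw [hA, hA]; exact hB.symm _ _
      nondeg := Subfield.Unit.formP_nd hσ one_ne_zero P }
  have hform : ∀ a b : Fin 3 → F, RV F₀ a → RV F₀ b → A a b ∈ F₀ := fun a b ha hb => by
    have := hP b a hb ha
    rw [one_mul, hermForm_eq hσq] at this
    rw [hA]; exact this
  obtain ⟨e, u, f, hFr⟩ := exists_frame hAH hfix h2 hform
  have hK : ∀ g, g ∈ Cfsg.Geo.subfieldSubgroup F₀ P ↔ Ratty F₀ (ep⁻¹ * glEquiv (Fin 3) F g * ep) := fun g => by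
    rw [hep, ← map_inv, ← map_mul, ← map_mul, ← mem_ratScalar_iff, Cfsg.Geo.subfieldSubgroup, Subgroup.mem_map]
    constructor
    · rintro ⟨y, hy, rfl⟩
      simpa [MulAut.conj_apply, mul_assoc] using hy
    · intro h
      exact ⟨_, h, by simp [MulAut.conj_apply, mul_assoc]⟩
  have hsu : ∀ s, s ∈ Herm.suG A ↔ ep * s * ep⁻¹ ∈ Herm.suG (hermB 3 σ) := fun s => by
    have hd : LinearEquiv.det (ep * s * ep⁻¹) = LinearEquiv.det s := by
      rw [map_mul, map_mul, map_inv, mul_comm (LinearEquiv.det ep), mul_inv_cancel_right]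
    constructor
    · rintro ⟨h1, h3⟩
      refine ⟨fun a b => ?_, by rw [hd]; exact h3⟩
      have h4 := h1 (ep⁻¹ a) (ep⁻¹ b)
      rw [hA, hA, apply_inv, apply_inv] at h4
      exact h4
    · rintro ⟨h1, h3⟩
      refine ⟨fun a b => ?_, by rw [← hd]; exact h3⟩
      have h4 := h1 (ep a) (ep b)
      simp only [LinearEquiv.mul_apply, inv_apply] at h4
      rw [hA, hA, h4]
  have hSU : Nat.card (Herm.suG A) = q ^ 3 * (q ^ 3 + 1) * (q ^ 2 - 1) := by
    rw [← Singer.card_suG3 hσ hσq hFq]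
    exact Nat.card_congr
      { toFun := fun g => ⟨ep * g.1 * ep⁻¹, (hsu _).1 g.2⟩
        invFun := fun g => ⟨ep⁻¹ * g.1 * ep, (hsu _).2 (by
          rw [show ep * (ep⁻¹ * g.1 * ep) * ep⁻¹ = g.1 by group]; exact g.2)⟩
        left_inv := fun g => Subtype.ext (by group)
        right_inv := fun g => Subtype.ext (by group) }
  refine isMaximalIn_su3 hσ hσq (exists_fixed hF hσq (by omega)) _ ?_ fun M hM hHM hg v hv => ?_
  · obtain ⟨ξ', hξ'⟩ := Herm.exists_moved hσ
    set ξ := ξ' - σ ξ' with hξ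
    have hx0 : ξ ≠ 0 := sub_ne_zero.2 (Ne.symm hξ')
    have hxs : σ ξ = -ξ := by rw [hξ, map_sub, hσ.invol, neg_sub]
    have hv : hermB 3 σ (ep e) (ep e) = 0 := by rw [← hA]; exact hFr.ee
    refine ⟨ep e, hv, ξ, by rw [hxs, add_neg_cancel], fun h => ?_⟩
    rw [hK, MulEquiv.apply_symm_apply] at h
    have htv : ep⁻¹ * Herm.tvU hv ξ * ep = Tv A e ξ := LinearEquiv.ext fun x => by
      apply ep.injective
      rw [LinearEquiv.mul_apply, LinearEquiv.mul_apply, apply_inv, Herm.tvU_apply, Tv_apply hFr.ee, map_add, map_smul, hA]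
    rw [htv] at h
    obtain ⟨c, hc, hci⟩ := h
    have hr : ∀ z, RV F₀ z → RV F₀ (c • Tv A e ξ z) := fun z hz => RV.map (L := c • (Tv A e ξ).toLinearMap) (fun i => hci i) hz
    have h1 := hr e hFr.re
    rw [Tv_apply hFr.ee, hFr.ee, mul_zero, zero_smul, add_zero] at h1
    have hcF : c ∈ F₀ := rv_scalar hFr.re h1 hFr.e0 rfl
    have h3 := hFr.form _ _ hFr.rf (hr f hFr.rf)
    rw [Tv_apply hFr.ee, hFr.ef, mul_one] at h3
    simp [hFr.ff, hFr.fe] at h3
    have h4 : ξ ∈ F₀ := by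
      have := F₀.mul_mem (F₀.inv_mem hcF) h3
      rwa [inv_mul_cancel_left₀ hc] at this
    exact hx0 ((mul_eq_zero.1 (show 2 * ξ = 0 by
      have := hFr.fx h4
      rw [hxs] at this
      linear_combination -this)).resolve_left h2)
  -- transport
  let X : Subgroup ((Fin 3 → F) ≃ₗ[F] (Fin 3 → F)) := M.comap (MulAut.conj ep).toMonoidHom
  have hle : X ≤ Herm.suG A := fun s hs => (hsu s).2 (hM hs)
  have hrat : ∀ s ∈ Herm.suG A, Ratty F₀ s → s ∈ X := fun s hs hr => by
    have h1 := (hsu s).1 hs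
    show ep * s * ep⁻¹ ∈ M
    refine hHM _ h1.1 (by rw [← LinearEquiv.coe_det, h1.2, Units.val_one]) ?_
    rw [hK, MulEquiv.apply_symm_apply, show ep⁻¹ * (ep * s * ep⁻¹) * ep = s by group]
    exact hr
  have hout : ∃ g ∈ X, ¬ Ratty F₀ g := by
    obtain ⟨g, hgM, hgK⟩ := hg
    refine ⟨ep⁻¹ * g * ep, ?_, fun h => hgK ((hK _).2 (by rwa [MulEquiv.apply_symm_apply]))⟩
    show ep * (ep⁻¹ * g * ep) * ep⁻¹ ∈ M
    rw [show ep * (ep⁻¹ * g * ep) * ep⁻¹ = g by group]
    exact hgM
  have hv' : A (ep⁻¹ v) (ep⁻¹ v) = 0 := by rw [hA, apply_inv, hv]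
  refine ⟨hv, fun hv1 c hc => ?_⟩
  have h1 : ep * Herm.tvU hv' c * ep⁻¹ ∈ M :=
    (all_centres hFr hF hσq hq0 hodd h7 hSU hle hrat hout _ hv').2 hv' c hc
  suffices h : ep * Herm.tvU hv' c * ep⁻¹ = Herm.tvU hv1 c by rwa [h] at h1
  exact LinearEquiv.ext fun x => by
    rw [LinearEquiv.mul_apply, LinearEquiv.mul_apply, Herm.tvU_apply, Herm.tvU_apply, map_add, map_smul, apply_inv,
      apply_inv, hA, apply_inv, apply_inv]

end Cfsg.Agent.ClassicalMax.SU3.SO
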