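import Cfsg.Agent.ClassicalMax.SU3.SO.Stab
import Cfsg.Agent.ClassicalMax.SU3.SO.Count

/-!
The orbit of a rational point: an overgroup of the rational isometries without transvections at the point is either
rational or transitive on isotropic points.
-/

set_option autoImplicit false
set_option linter.unusedSectionVars false
set_option linter.style.haveILetI false

namespace Cfsg.Agent.ClassicalMax.SU3.SO

open Module Cfsg.Agent.Classical Cfsg.Agent.ClassicalMax Cfsg.Agent.ClassicalMax.Subfield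
open Pointwise

variable {F : Type*} [Field F] [Fintype F] {σ : F →+* F} {F₀ : Subfield F}
  {A : (Fin 3 → F) →ₛₗ[σ] (Fin 3 → F) →ₗ[F] F} {e u f : Fin 3 → F} {ξ : F}
  {X : Subgroup ((Fin 3 → F) ≃ₗ[F] (Fin 3 → F))}

theorem smul_line (g : X) (v : Fin 3 → F) : g • (F ∙ v) = F ∙ (g.1 v) := by
  show Submodule.map (g.1.toLinearMap) _ = _
  rw [Submodule.map_span, Set.image_singleton]
  rfl

theorem line_eq {v w : Fin 3 → F} (hw : w ≠ 0) {a : F} (h : w = a • v) : F ∙ w = F ∙ v := by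
  have ha : a ≠ 0 := fun e => hw (by rw [h, e, zero_smul])
  rw [h, Submodule.span_singleton_smul_eq (IsUnit.mk0 _ ha)]

/-- the normalised vectors of the points of the orbit away from the base point -/
def orbV (A : (Fin 3 → F) →ₛₗ[σ] (Fin 3 → F) →ₗ[F] F) (e : Fin 3 → F)
    (X : Subgroup ((Fin 3 → F) ≃ₗ[F] (Fin 3 → F))) : Set (Fin 3 → F) :=
  {v | A e v = 1 ∧ ∃ g ∈ X, ∃ a : F, g e = a • v}

namespace Fr

variable (hF : Fr F₀ A e u f)
include hF

/-- the standard isotropic vectors -/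
noncomputable def pt (_ : Fr F₀ A e u f) (ξ s I : F) : Fin 3 → F :=
  (A u u * (ξ * ξ) * (s * s) / 2 + I * ξ) • e + (s * ξ) • u + f

theorem pt_e (ξ s I : F) : A e (hF.pt ξ s I) = 1 := by simp [pt, hF.ee, hF.eu, hF.ef]

theorem pt_zero (ξ : F) : hF.pt ξ 0 0 = f := by simp [pt]

theorem uni_pt {r : F} (hr : r ∈ F₀) (ξ s I : F) : hF.uni r (hF.pt ξ s I) =
    (A u u * (ξ * ξ) * (s * s) / 2 + I * ξ - s * ξ * (r * A u u) - A u u * r * r / 2) • e + (s * ξ + r) • u + f := by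
  obtain ⟨h1, h2, h3⟩ := hF.uni_apply r
  rw [hF.fx hr] at h2
  rw [pt, map_add, map_add, map_smul, map_smul, h1, h2, h3]
  module

theorem uni_pt_e {r : F} (hr : r ∈ F₀) (ξ s I : F) : A e (hF.uni r (hF.pt ξ s I)) = 1 := by
  rw [hF.uni_pt hr]; simp [hF.ee, hF.eu, hF.ef]

theorem pt_iso (hxs : σ ξ = -ξ) {s I : F} (hs : s ∈ F₀) (hI : I ∈ F₀) : A (hF.pt ξ s I) (hF.pt ξ s I) = 0 := by
  simp [pt, hF.ee, hF.eu, hF.ue, hF.ef, hF.fe, hF.fu, hF.uf, hF.ff, hF.fqu, hxs, hF.fx hs, hF.fx hI, map_ofNat]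
  field_simp [hF.two]
  ring

theorem dg_pt {t : Fˣ} (ξ s I : F) :
    hF.dg t 1 (hF.pt ξ s I) = (t : F)⁻¹ • hF.pt ξ ((t : F) * s) ((t : F) * t * I) := by
  obtain ⟨h1, h2, h3⟩ := hF.dg_apply t 1
  rw [pt, pt, map_add, map_add, map_smul, map_smul, h1, h2, h3]
  have := t.ne_zero
  match_scalars <;> field_simp

variable (hx0 : ξ ≠ 0) (hxs : σ ξ = -ξ)
include hx0 hxs

theorem coef_inj {r r' s s' : F} (hr : r ∈ F₀) (hr' : r' ∈ F₀) (hs : s ∈ F₀) (hs' : s' ∈ F₀)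
    (h : s * ξ + r = s' * ξ + r') : s = s' ∧ r = r' := by
  have h' := congrArg σ h
  rw [map_add, map_add, map_mul, map_mul, hxs, hF.fx hr, hF.fx hr', hF.fx hs, hF.fx hs'] at h'
  have e2 : 2 * ξ * (s - s') = 0 := by linear_combination h - h'
  have e3 := (mul_eq_zero.1 e2).resolve_left (mul_ne_zero hF.two hx0)
  rw [sub_eq_zero] at e3
  exact ⟨e3, by rw [e3] at h; exact add_left_cancel h⟩

theorem uni_pt_inj {r r' s s' I I' : F} (hr : r ∈ F₀) (hr' : r' ∈ F₀) (hs : s ∈ F₀) (hs' : s' ∈ F₀)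
    (h : hF.uni r (hF.pt ξ s I) = hF.uni r' (hF.pt ξ s' I')) : r = r' ∧ s = s' ∧ I = I' := by
  rw [hF.uni_pt hr, hF.uni_pt hr'] at h
  have h1 := congrArg (A u) h
  have h2 := congrArg (A f) h
  simp [hF.ue, hF.uf, hF.fe, hF.fu, hF.ff, hF.qu] at h1 h2
  obtain ⟨rfl, rfl⟩ := hF.coef_inj hx0 hxs hr hr' hs hs' h1
  exact ⟨rfl, rfl, mul_right_cancel₀ hx0 (by linear_combination h2)⟩

theorem uni_pt_surj {v : Fin 3 → F} (hv : A v v = 0) (hev : A e v = 1) :
    ∃ r ∈ F₀, ∃ s ∈ F₀, ∃ I ∈ F₀, v = hF.uni r (hF.pt ξ s I) := by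
  set a := A u v / A u u with ha
  set b := A f v with hb
  have hd : v = b • e + a • u + f := by
    conv_lhs => rw [hF.decomp v]
    rw [hev, one_smul]
  set r := (a + σ a) / 2 with hr
  set s := (a - σ a) / (2 * ξ) with hs
  have h2 := hF.two
  have hσr : σ r = r := by rw [hr, map_div₀, map_add, hF.invol, map_ofNat, add_comm]
  have hσs : σ s = s := by
    rw [hs, map_div₀, map_sub, hF.invol, map_mul, map_ofNat, hxs, mul_neg, ← neg_sub a (σ a), neg_div_neg_eq]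
  have hsr : s * ξ + r = a := by rw [hs, hr]; field_simp; ring
  set I := (b - A u u * (ξ * ξ) * (s * s) / 2 + s * ξ * (r * A u u) + A u u * r * r / 2) / ξ with hI
  have hbb : b + σ b + A u u * (a * σ a) = 0 := by
    have h := hv
    rw [hd] at h
    simp [hF.ee, hF.eu, hF.ue, hF.ef, hF.fe, hF.fu, hF.uf, hF.ff] at h
    linear_combination h
  have hσI : σ I = I := by
    rw [hI, map_div₀, hxs, div_neg, ← neg_div, div_left_inj' hx0]
    simp only [map_add, map_sub, map_mul, map_div₀, map_ofNat, hF.fqu, hxs, hσs, hσr]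
    rw [← hsr, map_add, map_mul, hxs, hσr, hσs] at hbb
    field_simp
    linear_combination -(2 : F) * hbb
  refine ⟨r, (hF.fix r).2 hσr, s, (hF.fix s).2 hσs, I, (hF.fix I).2 hσI, ?_⟩
  rw [hF.uni_pt ((hF.fix r).2 hσr), hsr]
  conv_lhs => rw [hd]
  congr 3
  rw [hI, div_mul_cancel₀ _ hx0]
  ring

theorem pt_rat {s I : F} (hs : s ∈ F₀) (hI : I ∈ F₀) {r : F} (hr : r ∈ F₀)
    (h : RV F₀ (hF.uni r (hF.pt ξ s I))) : s = 0 ∧ I = 0 := by
  obtain ⟨a1, a2, -⟩ := hF.rat_coords h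
  rw [hF.uni_pt hr] at a1 a2
  simp [hF.ue, hF.uf, hF.fe, hF.fu, hF.ff, hF.qu] at a1 a2
  have hs0 : s = 0 := by
    have h2 := hF.fx a2
    rw [map_add, map_mul, hxs, hF.fx hs, hF.fx hr] at h2
    exact (mul_eq_zero.1 (show s * (2 * ξ) = 0 by linear_combination -h2)).resolve_right (mul_ne_zero hF.two hx0)
  refine ⟨hs0, ?_⟩
  subst hs0
  have h2 := hF.fx a1
  simp [hxs, hF.fx hI, hF.fx hr, hF.fqu, map_ofNat] at h2
  exact (mul_eq_zero.1 (show I * (2 * ξ) = 0 by first | linear_combination -h2 | linear_combination h2)).resolve_right (mul_ne_zero hF.two hx0)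

end Fr

namespace Ov

variable (hO : Ov F₀ A e u f X)
include hO

/-- the scalar, diagonal and unipotent parts are unique -/
theorem card_stab : Nat.card (MulAction.stabilizer X (F ∙ e)) =
    Nat.card (zs σ) * Nat.card F₀ˣ * Nat.card F₀ := by
  haveI : Finite ((Fin 3 → F) ≃ₗ[F] (Fin 3 → F)) := Finite.of_injective _ DFunLike.coe_injective
  have hF := hO.toFr
  let un : F₀ˣ → Fˣ := fun t => Units.map F₀.subtype.toMonoidHom t
  let mk : zs σ × F₀ˣ × F₀ → (Fin 3 → F) ≃ₗ[F] (Fin 3 → F) := fun x =>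
    sc3 x.1.1 * (hF.dg (un x.2.1) 1 * hF.uni x.2.2.1)
  have hmem : ∀ x, mk x ∈ X := fun x =>
    mul_mem (hO.sc3_memX x.1.2) (mul_mem (hO.dg_memX (x.2.1 : F₀).2) (hO.uni_memX x.2.2.2))
  have hval : ∀ x, mk x e = ((x.1.1 : F) * un x.2.1) • e ∧
      mk x u = (x.1.1 : F) • u - ((x.1.1 : F) * un x.2.1 * (x.2.2.1 * A u u)) • e := fun x => by
    obtain ⟨g1, g2, -⟩ := hF.uni_apply x.2.2.1
    obtain ⟨d1, d2, -⟩ := hF.dg_apply (un x.2.1) 1
    rw [hF.fx x.2.2.2] at g2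
    simp only [mk, LinearEquiv.mul_apply, g1, g2, sc3_apply, d1, map_sub, map_smul, d2, Units.val_one]
    constructor <;> module
  let φ : zs σ × F₀ˣ × F₀ → MulAction.stabilizer X (F ∙ e) := fun x => ⟨⟨mk x, hmem x⟩, by
    rw [MulAction.mem_stabilizer_iff, smul_line]
    exact line_eq (fun h => hF.e0 ((mk x).map_eq_zero_iff.1 h)) (hval x).1⟩
  have hφ : Function.Bijective φ := by
    refine ⟨fun x y h => ?_, fun g => ?_⟩
    · have h' : mk x = mk y := congrArg (fun g : MulAction.stabilizer X (F ∙ e) => (g.1 : (Fin 3 → F) ≃ₗ[F] (Fin 3 → F))) h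
      have h1 := DFunLike.congr_fun h' e
      have h2 := DFunLike.congr_fun h' u
      rw [(hval x).1, (hval y).1] at h1
      rw [(hval x).2, (hval y).2] at h2
      have e1 := congrArg (A f) h1
      have e2 := congrArg (A u) h2
      have e3 := congrArg (A f) h2
      simp [hF.fe, hF.fu, hF.ue, hF.qu] at e1 e2 e3
      have z1 : x.1 = y.1 := Subtype.ext (Units.ext e2)
      rw [z1] at e1 e3
      have z2 : x.2.1 = y.2.1 := Units.ext (Subtype.ext (mul_left_cancel₀ y.1.1.ne_zero e1))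
      rw [z2] at e3
      have z3 : x.2.2 = y.2.2 := Subtype.ext (by simpa [hF.qu] using e3)
      exact Prod.ext z1 (Prod.ext z2 z3)
    · have hg := g.2
      rw [MulAction.mem_stabilizer_iff, smul_line] at hg
      obtain ⟨a, ha⟩ := Submodule.mem_span_singleton.1 (hg.le (Submodule.mem_span_singleton_self _))
      obtain ⟨z, hz, t, ht, r, hr, hgv⟩ := hO.fix_point g.1.2 ha.symm
      exact ⟨(⟨z, hz⟩, Units.mk0 ⟨t, ht⟩ (fun h => t.ne_zero (congrArg Subtype.val h)), ⟨r, hr⟩),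
        Subtype.ext (Subtype.ext (by
          rw [hgv]
          show sc3 z * (hF.dg _ 1 * hF.uni r) = _
          rw [show un (Units.mk0 ⟨t, ht⟩ _) = t from Units.ext rfl]))⟩
  rw [← Nat.card_eq_of_bijective φ hφ, Nat.card_prod, Nat.card_prod, mul_assoc]

theorem g_iso0 {g : (Fin 3 → F) ≃ₗ[F] (Fin 3 → F)} (hg : g ∈ X) : A (g e) (g e) = 0 := by rw [hO.iso hg, hO.toFr.ee]

theorem orbV_iso {v : Fin 3 → F} (hv : v ∈ orbV A e X) : A v v = 0 := by
  obtain ⟨-, g, hg, a, ha⟩ := hv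
  have h := hO.g_iso0 hg
  rw [ha, Herm.smul_self hO.toFr.herm] at h
  have ha0 : a ≠ 0 := fun e0 => hO.toFr.e0 (g.map_eq_zero_iff.1 (by rw [ha, e0, zero_smul]))
  exact (mul_eq_zero.1 h).resolve_left (mul_ne_zero ha0 ((map_ne_zero σ).2 ha0))

theorem card_orbit : Nat.card (MulAction.orbit X (F ∙ e)) = Nat.card (orbV A e X) + 1 := by
  classical
  haveI : Finite ((Fin 3 → F) ≃ₗ[F] (Fin 3 → F)) := Finite.of_injective _ DFunLike.coe_injective
  have hF := hO.toFr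
  let φ : Option (orbV A e X) → MulAction.orbit X (F ∙ e) := fun x => x.elim ⟨F ∙ e, MulAction.mem_orbit_self _⟩
    fun v => ⟨F ∙ v.1, by
      obtain ⟨-, g, hg, a, ha⟩ := v.2
      exact ⟨⟨g, hg⟩, (smul_line _ _).trans (line_eq (fun h => hF.e0 (g.map_eq_zero_iff.1 h)) ha)⟩⟩
  have hne : ∀ v : orbV A e X, (F ∙ v.1) ≠ F ∙ e := fun v h => by
    obtain ⟨a, ha⟩ := Submodule.mem_span_singleton.1 (h.le (Submodule.mem_span_singleton_self _))
    have := v.2.1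
    rw [← ha, map_smul, hF.ee, smul_zero] at this
    exact zero_ne_one this
  have hφ : Function.Bijective φ := by
    refine ⟨?_, ?_⟩
    · rintro (_ | v) (_ | w) h
      · rfl
      · exact absurd (congrArg Subtype.val h).symm (hne w)
      · exact absurd (congrArg Subtype.val h) (hne v)
      · have h' : F ∙ v.1 = F ∙ w.1 := congrArg Subtype.val h
        obtain ⟨a, ha⟩ := Submodule.mem_span_singleton.1 (h'.le (Submodule.mem_span_singleton_self _))
        have := v.2.1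
        rw [← ha, map_smul, w.2.1, smul_eq_mul, mul_one] at this
        rw [this, one_smul] at ha
        exact congrArg some (Subtype.ext ha.symm)
    · rintro ⟨_, g, rfl⟩
      by_cases h : A e (g.1 e) = 0
      · refine ⟨none, Subtype.ext ?_⟩
        obtain ⟨a, ha⟩ := orth_dep hF.herm (by rw [Module.finrank_fin_fun]) hF.e0 hF.ee (hO.g_iso0 g.2) h
        exact ((smul_line g e).trans (line_eq (fun h => hF.e0 (g.1.map_eq_zero_iff.1 h)) ha.symm)).symm
      · refine ⟨some ⟨(A e (g.1 e))⁻¹ • g.1 e, by rw [map_smul, smul_eq_mul, inv_mul_cancel₀ h], g.1, g.2, A e (g.1 e),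
          by rw [smul_inv_smul₀ h]⟩, Subtype.ext ?_⟩
        show F ∙ ((A e (g.1 e))⁻¹ • g.1 e) = g • (F ∙ e)
        rw [smul_line, Submodule.span_singleton_smul_eq (IsUnit.mk0 _ (inv_ne_zero h))]
  rw [← Nat.card_eq_of_bijective φ hφ, Finite.card_option]

theorem orbV_uni {v : Fin 3 → F} (hv : v ∈ orbV A e X) {r : F} (hr : r ∈ F₀) : hO.toFr.uni r v ∈ orbV A e X := by
  obtain ⟨h1, g, hg, a, ha⟩ := hv
  refine ⟨?_, hO.toFr.uni r * g, mul_mem (hO.uni_memX hr) hg, a, by rw [LinearEquiv.mul_apply, ha, map_smul]⟩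
  have h := hO.iso (hO.uni_memX hr) e v
  rwa [(hO.toFr.uni_apply r).1, h1] at h

/-- the parameters of the orbit -/
def par (hO : Ov F₀ A e u f X) (ξ : F) : Set (F₀ × F₀) := {p | hO.toFr.pt ξ p.1 p.2 ∈ orbV A e X}

variable (hx0 : ξ ≠ 0) (hxs : σ ξ = -ξ)
include hx0 hxs

theorem card_orbV : Nat.card (orbV A e X) = Nat.card F₀ * Nat.card (hO.par ξ) := by
  have hF := hO.toFr
  let φ : F₀ × hO.par ξ → orbV A e X := fun x => ⟨_, hO.orbV_uni x.2.2 x.1.2⟩
  have hφ : Function.Bijective φ := by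
    refine ⟨fun x y h => ?_, fun v => ?_⟩
    · obtain ⟨h1, h2, h3⟩ := hF.uni_pt_inj hx0 hxs x.1.2 y.1.2 x.2.1.1.2 y.2.1.1.2 (congrArg Subtype.val h)
      exact Prod.ext (Subtype.ext h1) (Subtype.ext (Prod.ext (Subtype.ext h2) (Subtype.ext h3)))
    · obtain ⟨r, hr, s, hs, I, hI, hv⟩ := hF.uni_pt_surj hx0 hxs (hO.orbV_iso v.2) v.2.1
      have hm : hF.pt ξ s I ∈ orbV A e X := by
        have h := hO.orbV_uni v.2 (F₀.neg_mem hr)
        rwa [hv, ← LinearEquiv.mul_apply, hF.uni_mul _ _ (hF.fx (F₀.neg_mem hr)), neg_add_cancel, hF.uni_zero] at h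
      exact ⟨(⟨r, hr⟩, ⟨(⟨s, hs⟩, ⟨I, hI⟩), hm⟩), Subtype.ext hv.symm⟩
  rw [← Nat.card_eq_of_bijective φ hφ, Nat.card_prod]

theorem card_eq : Nat.card X = (1 + Nat.card F₀ * Nat.card (hO.par ξ)) *
    (Nat.card (zs σ) * Nat.card F₀ˣ * Nat.card F₀) := by
  rw [← hO.card_stab, ← hO.card_orbV hx0 hxs, add_comm, ← hO.card_orbit,
    ← Nat.card_prod, Nat.card_congr (MulAction.orbitProdStabilizerEquivGroup X (F ∙ e))]

theorem par_zero : ((0 : F₀), (0 : F₀)) ∈ hO.par ξ := by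
  refine ⟨hO.toFr.pt_e ξ _ _, hO.toFr.swp, hO.swp_memX, 1, ?_⟩
  rw [ZeroMemClass.coe_zero, hO.toFr.pt_zero, one_smul, hO.toFr.swp_apply.1]

theorem par_scale (t : F₀) (ht : t ≠ 0) : ∀ p ∈ hO.par ξ, (t * p.1, t * t * p.2) ∈ hO.par ξ := by
  rintro ⟨s, I⟩ ⟨-, g, hg, a, ha⟩
  have ht0 : (t : F) ≠ 0 := fun h => ht (Subtype.ext h)
  refine ⟨hO.toFr.pt_e ξ _ _, hO.toFr.dg (Units.mk0 _ ht0) 1 * g, mul_mem (hO.dg_memX t.2) hg, a * (t : F)⁻¹, ?_⟩
  rw [LinearEquiv.mul_apply, ha, map_smul, hO.toFr.dg_pt, smul_smul]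
  rfl

/-- every element is rational when the orbit is the rational one -/
theorem ratty_all (h1 : Nat.card (hO.par ξ) = 1) : ∀ g ∈ X, Ratty F₀ g := by
  have hF := hO.toFr
  intro g hg
  have hfix : ∀ g ∈ X, (∃ a : F, g e = a • e) → g ∈ rty F₀ := by
    rintro g hg ⟨a, ha⟩
    obtain ⟨z, hz, t, ht, r, hr, rfl⟩ := hO.fix_point hg ha
    exact mul_mem (mem_rty.2 (hF.sc3_mem hz).2) (mul_mem (mem_rty.2 (hF.dg_mem ht).2) (mem_rty.2 (hF.uni_mem hr).2))
  refine mem_rty.1 ?_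
  by_cases h : A e (g e) = 0
  · obtain ⟨a, ha⟩ := orth_dep hF.herm (by rw [Module.finrank_fin_fun]) hF.e0 hF.ee (hO.g_iso0 hg) h
    exact hfix g hg ⟨a, ha.symm⟩
  have hv : (A e (g e))⁻¹ • g e ∈ orbV A e X :=
    ⟨by rw [map_smul, smul_eq_mul, inv_mul_cancel₀ h], g, hg, A e (g e), by rw [smul_inv_smul₀ h]⟩
  obtain ⟨r, hr, s, hs, I, hI, hvr⟩ := hF.uni_pt_surj hx0 hxs (hO.orbV_iso hv) hv.1
  have hm : ((⟨s, hs⟩, ⟨I, hI⟩) : F₀ × F₀) ∈ hO.par ξ := by
    have h := hO.orbV_uni hv (F₀.neg_mem hr)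
    rw [hvr, ← LinearEquiv.mul_apply, hF.uni_mul _ _ (hF.fx (F₀.neg_mem hr)), neg_add_cancel, hF.uni_zero] at h
    exact h
  have he := (Nat.card_eq_one_iff_unique.1 h1).1.allEq ⟨_, hm⟩ ⟨_, hO.par_zero hx0 hxs⟩
  have e1 := congrArg (fun x : hO.par ξ => ((x.1.1 : F₀) : F)) he
  have e2 := congrArg (fun x : hO.par ξ => ((x.1.2 : F₀) : F)) he
  simp only [ZeroMemClass.coe_zero] at e1 e2
  subst e1 e2
  rw [hF.pt_zero] at hvr
  set k := hF.uni r * hF.swp with hk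
  have hke : k e = (A e (g e))⁻¹ • g e := by rw [hvr, hk, LinearEquiv.mul_apply, hF.swp_apply.1]
  have hkX : k ∈ X := mul_mem (hO.uni_memX hr) hO.swp_memX
  have hk' : k⁻¹ * g ∈ rty F₀ := hfix _ (mul_mem (inv_mem hkX) hg) ⟨A e (g e), k.injective (by
    show k (k⁻¹ (g e)) = _
    rw [apply_inv, map_smul, hke, smul_inv_smul₀ h])⟩
  have hkr : k ∈ rty F₀ := mul_mem (mem_rty.2 (hF.uni_mem hr).2) (mem_rty.2 hF.swp_mem.2)
  simpa using mul_mem hkr hk'

/-- the parameters of a rational group -/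
theorem par_ratty (hrat : ∀ g ∈ X, Ratty F₀ g) : Nat.card (hO.par ξ) = 1 := by
  have hF := hO.toFr
  refine Nat.card_eq_one_iff_unique.2 ⟨⟨?_⟩, ⟨⟨_, hO.par_zero hx0 hxs⟩⟩⟩
  suffices h : ∀ p ∈ hO.par ξ, p = ((0 : F₀), (0 : F₀)) from fun x y => Subtype.ext ((h _ x.2).trans (h _ y.2).symm)
  rintro ⟨s, I⟩ ⟨hev, g, hg, a, ha⟩
  obtain ⟨c, hc, hci⟩ := hrat g hg
  have hr : RV F₀ (c • g e) := RV.map (L := c • g.toLinearMap) (fun i => hci i) hF.re
  rw [ha, smul_smul] at hr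
  have hca := (hF.rat_coords hr).2.2
  rw [map_smul, hev, smul_eq_mul, mul_one] at hca
  have hca0 : c * a ≠ 0 := mul_ne_zero hc fun h => hF.e0 (g.map_eq_zero_iff.1 (by rw [ha, h, zero_smul]))
  have hv := hr.smul (F₀.inv_mem hca)
  rw [smul_smul, inv_mul_cancel₀ hca0, one_smul] at hv
  have h0 : RV F₀ (hF.uni 0 (hF.pt ξ (s : F) (I : F))) := by rw [hF.uni_zero]; exact hv
  obtain ⟨h1, h2⟩ := hF.pt_rat hx0 hxs s.2 I.2 F₀.zero_mem h0
  exact Prod.ext (Subtype.ext h1) (Subtype.ext h2)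

/-- either rational or transitive on isotropic points -/
theorem dichotomy {q : ℕ} (hq : Nat.card F₀ = q) (hodd : Odd q) (h7 : 7 ≤ q)
    (hSU : Nat.card (Herm.suG A) = q ^ 3 * (q ^ 3 + 1) * (q ^ 2 - 1)) :
    (∀ g ∈ X, Ratty F₀ g) ∨ (Nat.card X = (q ^ 3 + 1) * (Nat.card (zs σ) * (q - 1) * q) ∧
      ∀ v, A v v = 0 → v ≠ 0 → ∃ g ∈ X, ∃ a : F, g e = a • v) := by
  haveI : Finite ((Fin 3 → F) ≃ₗ[F] (Fin 3 → F)) := Finite.of_injective _ DFunLike.coe_injective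
  obtain ⟨h, hh⟩ := hodd
  have h2 : (2 : F₀) ≠ 0 := fun e0 => hO.toFr.two (congrArg Subtype.val e0)
  obtain ⟨i, hi, hpar⟩ := card_weighted h2 (h := h) (by rw [hq, hh]) (hO.par ξ) (hO.par_zero hx0 hxs)
    (fun t ht p hp => hO.par_scale hx0 hxs t ht p hp)
  have hU : Nat.card F₀ˣ = q - 1 := by rw [Nat.card_units, hq]
  set g := Nat.card (zs σ) with hg
  have hg0 : 0 < g := Nat.card_pos
  have hcard := hO.card_eq hx0 hxs
  rw [hq, hpar, hU] at hcard
  -- the rational subgroup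
  have hR : Ov F₀ A e u f (X ⊓ rty F₀) :=
    { toFr := hO.toFr
      le := inf_le_left.trans hO.le
      rat := fun x hx hr => ⟨hO.rat x hx hr, mem_rty.2 hr⟩
      nt := fun c hc hX => hO.nt c hc hX.1 }
  have hcR := hR.card_eq hx0 hxs
  rw [hq, hU, hR.par_ratty hx0 hxs fun x hx => mem_rty.1 hx.2, mul_one, ← hg] at hcR
  obtain ⟨m, hm⟩ : Nat.card ↥(X ⊓ rty F₀) ∣ Nat.card X := Subgroup.card_dvd_of_le inf_le_left
  rw [hcard, hcR] at hm
  have hpos : 0 < g * (q - 1) * q := Nat.mul_pos (Nat.mul_pos hg0 (by omega)) (by omega)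
  have hm' : 1 + q * (1 + h * i) = (q + 1) * m := Nat.eq_of_mul_eq_mul_right hpos (by rw [hm]; ring)
  have hd : m ∣ q ^ 2 * (q ^ 3 + 1) := by
    have hX : Nat.card X ∣ Nat.card (Herm.suG A) := Subgroup.card_dvd_of_le hO.le
    rw [hcard, hm', hSU] at hX
    have hfac : q ^ 2 - 1 = (q + 1) * (q - 1) := by simpa using Nat.sq_sub_sq q 1
    rw [hfac, show (q + 1) * m * (g * (q - 1) * q) = ((q + 1) * (q - 1) * q) * (m * g) by ring,
      show q ^ 3 * (q ^ 3 + 1) * ((q + 1) * (q - 1)) = ((q + 1) * (q - 1) * q) * (q ^ 2 * (q ^ 3 + 1)) by ring] at hX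
    exact (dvd_mul_right m g).trans (Nat.dvd_of_mul_dvd_mul_left
      (Nat.mul_pos (Nat.mul_pos (by omega) (by omega)) (by omega)) hX)
  rcases orbit_arith hh h7 (by rw [hq] at hi; exact hi) hm' hd with h0 | h0
  · subst h0
    exact Or.inl (hO.ratty_all hx0 hxs (by simpa using hpar))
  · refine Or.inr ⟨by rw [hcard, h0], fun v hv hv0 => ?_⟩
    have hF := hO.toFr
    have hfull : hO.par ξ = Set.univ := by
      refine Set.eq_univ_of_forall fun p => ?_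
      by_contra hp
      have hlt : Nat.card (hO.par ξ) < Nat.card (F₀ × F₀) := by
        rw [Nat.card_coe_set_eq, ← Set.ncard_univ]
        exact Set.ncard_lt_ncard (Set.ssubset_univ_iff.2 fun e0 => hp (e0 ▸ Set.mem_univ p))
      rw [hpar, Nat.card_prod, hq] at hlt
      have : q * (1 + h * i) = q * (q * q) := by ring_nf at h0 ⊢; omega
      have := Nat.eq_of_mul_eq_mul_left (by omega) this
      omega
    by_cases hev : A e v = 0
    · obtain ⟨a, ha⟩ := orth_dep hF.herm (by rw [Module.finrank_fin_fun]) hF.e0 hF.ee hv hev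
      refine ⟨1, one_mem _, a⁻¹, ?_⟩
      have ha0 : a ≠ 0 := fun e0 => hv0 (by rw [← ha, e0, zero_smul])
      rw [← ha, inv_smul_smul₀ ha0]; rfl
    set w := (A e v)⁻¹ • v with hw
    have hew : A e w = 1 := by rw [hw, map_smul, smul_eq_mul, inv_mul_cancel₀ hev]
    obtain ⟨r, hr, s, hs, I, hI, hwr⟩ := hF.uni_pt_surj hx0 hxs (v := w) (by rw [hw, Herm.smul_self hF.herm, hv, mul_zero]) hew
    have hmem : hF.pt ξ s I ∈ orbV A e X := by
      have : ((⟨s, hs⟩, ⟨I, hI⟩) : F₀ × F₀) ∈ hO.par ξ := hfull ▸ Set.mem_univ _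
      exact this
    obtain ⟨-, g', hg', a, ha⟩ := hO.orbV_uni hmem hr
    rw [← hwr, hw, smul_smul] at ha
    exact ⟨g', hg', _, ha⟩

end Ov

end Cfsg.Agent.ClassicalMax.SU3.SO
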