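import Cfsg.Agent.ClassicalMax.SU3.SO.Orbit
import Cfsg.Agent.ClassicalMax.SU4.OrthArith

/-!
A transitive overgroup pairs the isotropic points of the line orthogonal to the anisotropic vector; the pairing is
impossible for fields with more than eleven elements.
-/

set_option autoImplicit false
set_option linter.unusedSectionVars false
set_option linter.style.haveILetI false

namespace Cfsg.Agent.ClassicalMax.SU3.SO

open Module Cfsg.Agent.Classical Cfsg.Agent.ClassicalMax Cfsg.Agent.ClassicalMax.Subfield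

/-- a quadratic has at most two roots -/
theorem card_quad {K : Type*} [Field K] [Fintype K] [DecidableEq K] {a b e : K} (ha : a ≠ 0) :
    (Finset.univ.filter fun x : K => a * (x * x) + b * x + e = 0).card ≤ 2 := by
  by_contra hc
  push Not at hc
  obtain ⟨x, hx, y, hy, z, hz, hxy, hxz, hyz⟩ := Finset.two_lt_card.1 hc
  simp only [Finset.mem_filter, Finset.mem_univ, true_and] at hx hy hz
  have h1 : (x - y) * (a * (x + y) + b) = 0 := by linear_combination hx - hy
  have h2 : (x - z) * (a * (x + z) + b) = 0 := by linear_combination hx - hz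
  have h1' := (mul_eq_zero.1 h1).resolve_left (sub_ne_zero.2 hxy)
  have h2' := (mul_eq_zero.1 h2).resolve_left (sub_ne_zero.2 hxz)
  exact hyz (sub_eq_zero.1 ((mul_eq_zero.1 (show a * (y - z) = 0 by linear_combination h1' - h2')).resolve_left ha))

/-- the pairing bounds the field -/
theorem pair_bound {K : Type*} [Field K] [Fintype K] (h2 : (2 : K) ≠ 0) {c d : K} (hd : d ≠ 0) (hc0 : c ≠ 0)
    (hc : c = -1 ∨ ¬ IsSquare c)
    (h : ∀ x : K, x ≠ 0 → IsSquare x → x + d ≠ 0 → c * x + d ≠ 0 →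
      c ^ 2 * (x * x) + (1 + c) * d * x + d ^ 2 = 0 ∨ c ^ 2 * (x * x) + c * (1 + c) * d * x + d ^ 2 = 0) :
    Fintype.card K ≤ 11 := by
  classical
  set S : Finset K := Finset.univ.filter fun x => x ≠ 0 ∧ IsSquare x with hS
  have hcov : Fintype.card K ≤ 2 * S.card + 1 := by
    have hsub : (Finset.univ.erase (0 : K)) ⊆ S.biUnion fun s => Finset.univ.filter fun y => y * y = s := by
      intro y hy
      rw [Finset.mem_erase] at hy
      refine Finset.mem_biUnion.2 ⟨y * y, ?_, by simp⟩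
      rw [hS, Finset.mem_filter]
      exact ⟨Finset.mem_univ _, mul_ne_zero hy.1 hy.1, y, rfl⟩
    have h1 := (Finset.card_le_card hsub).trans (Finset.card_biUnion_le_card_mul S _ 2 fun s _ => by
      refine le_trans (le_of_eq ?_) (card_quad (a := 1) (b := 0) (e := -s) one_ne_zero)
      refine congrArg Finset.card (Finset.filter_congr fun y _ => ?_)
      rw [one_mul, zero_mul, add_zero, ← sub_eq_add_neg, sub_eq_zero])
    rw [Finset.card_erase_of_mem (Finset.mem_univ _), Finset.card_univ] at h1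
    omega
  set R1 : Finset K := Finset.univ.filter fun x => c ^ 2 * (x * x) + (1 + c) * d * x + d ^ 2 = 0 with hR1
  set R2 : Finset K := Finset.univ.filter fun x => c ^ 2 * (x * x) + c * (1 + c) * d * x + d ^ 2 = 0 with hR2
  have hr1 : R1.card ≤ 2 := card_quad (pow_ne_zero 2 hc0)
  have hr2 : R2.card ≤ 2 := card_quad (pow_ne_zero 2 hc0)
  have hmem : ∀ x ∈ S, x ∈ R1 ∨ x ∈ R2 ∨ x = -d ∨ x = -d / c := fun x hx => by
    rw [hS, Finset.mem_filter] at hx
    by_cases e1 : x + d = 0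
    · exact Or.inr (Or.inr (Or.inl (eq_neg_of_add_eq_zero_left e1)))
    by_cases e2 : c * x + d = 0
    · exact Or.inr (Or.inr (Or.inr (by rw [eq_div_iff hc0]; linear_combination e2)))
    rcases h x hx.2.1 hx.2.2 e1 e2 with e | e
    · exact Or.inl (by simp [hR1, e])
    · exact Or.inr (Or.inl (by simp [hR2, e]))
  rcases hc with hc | hc
  · subst hc
    have hle : S ⊆ R1 ∪ {-d, d} := by
      intro x hx
      simp only [Finset.mem_union, Finset.mem_insert, Finset.mem_singleton]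
      rcases hmem x hx with e | e | e | e
      · exact Or.inl e
      · refine Or.inl ?_
        simp [hR1, hR2] at e ⊢
        linear_combination e
      · exact Or.inr (Or.inl e)
      · exact Or.inr (Or.inr (by rw [e]; simp))
    have := (Finset.card_le_card hle).trans (Finset.card_union_le _ _)
    have := Finset.card_le_two (a := -d) (b := d)
    omega
  · have hle : ∃ z, S ⊆ R1 ∪ R2 ∪ {z} := by
      by_cases hd' : IsSquare (-d)
      · refine ⟨-d, fun x hx => ?_⟩
        simp only [Finset.mem_union, Finset.mem_singleton]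
        rcases hmem x hx with e | e | e | e
        · exact Or.inl (Or.inl e)
        · exact Or.inl (Or.inr e)
        · exact Or.inr e
        · exfalso
          rw [hS, Finset.mem_filter] at hx
          refine hc ?_
          have : c = -d / x := by rw [e]; field_simp
          rw [this]
          exact hd'.div hx.2.2
      · refine ⟨-d / c, fun x hx => ?_⟩
        simp only [Finset.mem_union, Finset.mem_singleton]
        rcases hmem x hx with e | e | e | e
        · exact Or.inl (Or.inl e)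
        · exact Or.inl (Or.inr e)
        · exfalso
          rw [hS, Finset.mem_filter] at hx
          exact hd' (e ▸ hx.2.2)
        · exact Or.inr e
    obtain ⟨z, hz⟩ := hle
    have := (Finset.card_le_card hz).trans (Finset.card_union_le _ _)
    have := Finset.card_union_le R1 R2
    rw [Finset.card_singleton] at *
    omega

variable {F : Type*} [Field F] [Fintype F] {σ : F →+* F} {F₀ : Subfield F}
  {A : (Fin 3 → F) →ₛₗ[σ] (Fin 3 → F) →ₗ[F] F} {e u f : Fin 3 → F} {ξ : F}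
  {X : Subgroup ((Fin 3 → F) ≃ₗ[F] (Fin 3 → F))}

/-- the points of the line orthogonal to the anisotropic vector -/
def lp (e f : Fin 3 → F) (ξ : F) (x : F₀) : Fin 3 → F := ((x : F) * ξ) • e + f

/-- paired points -/
def Pair (X : Subgroup ((Fin 3 → F) ≃ₗ[F] (Fin 3 → F))) (e u f : Fin 3 → F) (ξ : F) (x y : F₀) : Prop :=
  ∃ g ∈ X, (∃ b : F, g u = b • u) ∧ (∃ a : F, g e = a • lp e f ξ x) ∧ ∃ a : F, g f = a • lp e f ξ y

namespace Ov

variable (hO : Ov F₀ A e u f X)
include hO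

/-- elements fixing the two lines fix the third -/
theorem diag_of_fix {k : (Fin 3 → F) ≃ₗ[F] (Fin 3 → F)} (hk : k ∈ X) {a b : F} (ha : k e = a • e) (hb : k u = b • u) :
    ∃ c : F, k f = c • f := by
  have hF := hO.toFr
  obtain ⟨z, hz, t, ht, r, hr, rfl⟩ := hO.fix_point hk ha
  obtain ⟨-, g2, g3⟩ := hF.uni_apply r
  obtain ⟨d1, d2, d3⟩ := hF.dg_apply t 1
  rw [LinearEquiv.mul_apply, LinearEquiv.mul_apply, g2, map_sub, map_smul, d2, d1, sc3_apply, Units.val_one, one_smul,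
    hF.fx hr] at hb
  have h := congrArg (A f) hb
  simp [hF.fe, hF.fu, hF.qu] at h
  refine ⟨(z : F) * (t : F)⁻¹, ?_⟩
  rw [LinearEquiv.mul_apply, LinearEquiv.mul_apply, g3, map_sub, map_add, map_smul, map_smul, d3, d2, d1, sc3_apply, h]
  simp [smul_smul]

theorem scal_ne {g : (Fin 3 → F) ≃ₗ[F] (Fin 3 → F)} {v w : Fin 3 → F} (hv : v ≠ 0) {a : F} (h : g v = a • w) :
    a ≠ 0 := fun e0 => hv (g.map_eq_zero_iff.1 (by rw [h, e0, zero_smul]))

/-- an element carrying the base point to a point of the line and fixing the pole -/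
theorem mover (htr : ∀ v, A v v = 0 → v ≠ 0 → ∃ g ∈ X, ∃ a : F, g e = a • v) {x : Fin 3 → F} (hx : A x x = 0)
    (hx0 : x ≠ 0) (hux : A u x = 0) : ∃ g ∈ X, (∃ a : F, g e = a • x) ∧ ∃ b : F, g u = b • u := by
  have hF := hO.toFr
  obtain ⟨g, hg, a, ha⟩ := htr x hx hx0
  have ha0 := hO.scal_ne hF.e0 ha
  set s := hF.dg (-1) 1 with hs
  have hsX : s ∈ X := hO.dg_memX (by simp [F₀.neg_mem F₀.one_mem])
  obtain ⟨s1, s2, s3⟩ := hF.dg_apply (-1) 1
  simp only [Units.val_neg, Units.val_one, inv_neg, inv_one, one_smul, neg_smul, ← hs] at s1 s2 s3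
  have hsv : ∀ v, s v = -v + (2 * (A u v / A u u)) • u := fun v => by
    conv_lhs => rw [hF.decomp v]
    conv_rhs => arg 1; rw [hF.decomp v]
    rw [map_add, map_add, map_smul, map_smul, map_smul, s1, s2, s3]
    module
  have hss : ∀ v, s (s v) = v := fun v => by
    rw [hsv v, map_add, map_neg, map_smul, s2, hsv v]; module
  set k := g⁻¹ * s * g with hk
  have hkX : k ∈ X := mul_mem (mul_mem (inv_mem hg) hsX) hg
  have hke : k e = (-1 : F) • e := by
    rw [hk, LinearEquiv.mul_apply, LinearEquiv.mul_apply, ha, map_smul, hsv x, hux, zero_div, mul_zero, zero_smul,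
      add_zero, map_smul, map_neg, neg_one_smul]
    rw [show g⁻¹ x = a⁻¹ • e from g.injective (by rw [apply_inv, map_smul, ha, inv_smul_smul₀ ha0]), smul_neg,
      smul_inv_smul₀ ha0]
  obtain ⟨z, hz, t, ht, r, hr, hkv⟩ := hO.fix_point hkX hke
  obtain ⟨g1, g2, -⟩ := hF.uni_apply r
  obtain ⟨d1, d2, -⟩ := hF.dg_apply t 1
  rw [hF.fx hr] at g2
  have hku : k u = (z : F) • u - ((z : F) * t * (r * A u u)) • e := by
    rw [hkv, LinearEquiv.mul_apply, LinearEquiv.mul_apply, g2, map_sub, map_smul, d2, d1, sc3_apply, Units.val_one]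
    module
  have hzt : (z : F) * t = -1 := by
    rw [hkv, LinearEquiv.mul_apply, LinearEquiv.mul_apply, g1, d1, sc3_apply, smul_smul] at hke
    have h := congrArg (A f) hke
    simpa [hF.fe] using h
  have hkk : k (k u) = u := by
    rw [hk, LinearEquiv.mul_apply, LinearEquiv.mul_apply, LinearEquiv.mul_apply, LinearEquiv.mul_apply, apply_inv, hss,
      inv_apply]
  have hz1 : (z : F) = 1 := by
    rw [hku, map_sub, map_smul, map_smul, hku, hke] at hkk
    have h := congrArg (A u) hkk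
    simp [hF.ue, hF.qu] at h
    have h' : (z : F) * z = 1 := mul_right_cancel₀ hF.qu (by linear_combination h)
    linear_combination hz.1 - (z : F) * h'
  rw [hz1, one_mul] at hzt
  rw [hz1, hzt, one_mul, neg_one_mul, one_smul, neg_smul, sub_neg_eq_add] at hku
  have hr' : -(r / 2) ∈ F₀ := F₀.neg_mem (F₀.div_mem hr hF.two_mem)
  set g' := g * hF.uni (-(r / 2)) with hg'
  obtain ⟨w1, w2, -⟩ := hF.uni_apply (-(r / 2))
  rw [hF.fx hr', neg_mul, neg_smul, sub_neg_eq_add] at w2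
  refine ⟨g', mul_mem hg (hO.uni_memX hr'), ⟨a, by rw [hg', LinearEquiv.mul_apply, w1, ha]⟩, ?_⟩
  have hfix : k (hF.uni (-(r / 2)) u) = hF.uni (-(r / 2)) u := by
    rw [w2, map_add, map_smul, hku, hke]
    have := hF.two
    match_scalars <;> field_simp
    ring
  have hsg : s (g' u) = g' u := by
    rw [hk, LinearEquiv.mul_apply, LinearEquiv.mul_apply] at hfix
    have := congrArg g hfix
    rwa [apply_inv, ← LinearEquiv.mul_apply g] at this
  refine ⟨A u (g' u) / A u u, ?_⟩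
  rw [hsv] at hsg
  refine smul_right_injective _ hF.two (?_ : (2 : F) • g' u = (2 : F) • _)
  rw [smul_smul]
  linear_combination (norm := module) -hsg

theorem pair_unique {x y y' : F₀} (h : Pair X e u f ξ x y) (h' : Pair X e u f ξ x y') : y = y' ∨ ξ = 0 := by
  have hF := hO.toFr
  by_cases hx0 : ξ = 0
  · exact Or.inr hx0
  obtain ⟨g, hg, ⟨b, hb⟩, ⟨a, ha⟩, c, hc⟩ := h
  obtain ⟨g', hg', ⟨b', hb'⟩, ⟨a', ha'⟩, c', hc'⟩ := h'
  have ha0 := hO.scal_ne hF.e0 ha
  have hb0 := hO.scal_ne hF.u0 hb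
  have he : (g⁻¹ * g') e = (a' / a) • e := g.injective (by
    rw [LinearEquiv.mul_apply, apply_inv, map_smul, ha, ha', smul_smul, div_mul_cancel₀ _ ha0])
  have hu : (g⁻¹ * g') u = (b' / b) • u := g.injective (by
    rw [LinearEquiv.mul_apply, apply_inv, map_smul, hb, hb', smul_smul, div_mul_cancel₀ _ hb0])
  obtain ⟨m, hm⟩ := hO.diag_of_fix (mul_mem (inv_mem hg) hg') he hu
  have := congrArg g hm
  rw [LinearEquiv.mul_apply, apply_inv, map_smul, hc, hc', smul_smul] at this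
  have e1 := congrArg (A e) this
  have e2 := congrArg (A f) this
  simp [lp, hF.ee, hF.ef, hF.fe, hF.ff] at e1 e2
  have hc'0 := hO.scal_ne hF.f0 hc'
  rw [← e1] at e2
  exact Or.inl (Subtype.ext (mul_right_cancel₀ hx0 (mul_left_cancel₀ hc'0 e2)).symm)

theorem pair_symm {x y : F₀} (h : Pair X e u f ξ x y) : Pair X e u f ξ y x := by
  obtain ⟨g, hg, ⟨b, hb⟩, ⟨a, ha⟩, c, hc⟩ := h
  obtain ⟨s1, s2, s3⟩ := hO.toFr.swp_apply
  exact ⟨g * hO.toFr.swp, mul_mem hg hO.swp_memX, ⟨-b, by rw [LinearEquiv.mul_apply, s2, map_neg, hb, neg_smul]⟩,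
    ⟨c, by rw [LinearEquiv.mul_apply, s1, hc]⟩, a, by rw [LinearEquiv.mul_apply, s3, ha]⟩

variable (hxs : σ ξ = -ξ)
include hxs

theorem lp_iso (x : F₀) : A (lp e f ξ x) (lp e f ξ x) = 0 := by
  simp [lp, hO.ee, hO.ef, hO.toFr.fe, hO.ff, hxs, hO.toFr.fx x.2]

theorem pair_irrefl {x : F₀} (h : Pair X e u f ξ x x) : False := by
  obtain ⟨g, hg, -, ⟨a, ha⟩, c, hc⟩ := h
  have h1 := hO.iso hg e f
  simp [ha, hc, hO.lp_iso hxs, hO.ef] at h1

theorem pair_scale {x y : F₀} (h : Pair X e u f ξ x y) {t : F₀} (ht : t ≠ 0) :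
    Pair X e u f ξ (t * t * x) (t * t * y) := by
  obtain ⟨g, hg, ⟨b, hb⟩, ⟨a, ha⟩, c, hc⟩ := h
  have ht0 : (t : F) ≠ 0 := fun e0 => ht (Subtype.ext e0)
  obtain ⟨d1, d2, d3⟩ := hO.toFr.dg_apply (Units.mk0 _ ht0) 1
  have hl : ∀ z : F₀, hO.toFr.dg (Units.mk0 _ ht0) 1 (lp e f ξ z) = (t : F)⁻¹ • lp e f ξ (t * t * z) := fun z => by
    rw [lp, lp, map_add, map_smul, d1, d3, Units.val_mk0]
    push_cast
    match_scalars <;> field_simp
  exact ⟨hO.toFr.dg (Units.mk0 _ ht0) 1 * g, mul_mem (hO.dg_memX t.2) hg,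
    ⟨b, by rw [LinearEquiv.mul_apply, hb, map_smul, d2, Units.val_one, one_smul]⟩,
    ⟨a * (t : F)⁻¹, by rw [LinearEquiv.mul_apply, ha, map_smul, hl, smul_smul]⟩,
    c * (t : F)⁻¹, by rw [LinearEquiv.mul_apply, hc, map_smul, hl, smul_smul]⟩

theorem pair_ne_zero {x y : F₀} (h : Pair X e u f ξ x y) : x ≠ 0 := by
  intro hx
  have hF := hO.toFr
  obtain ⟨g, hg, ⟨b, hb⟩, ⟨a, ha⟩, c, hc⟩ := h
  obtain ⟨s1, s2, s3⟩ := hF.swp_apply
  have he : (hF.swp * g) e = a • e := by
    rw [LinearEquiv.mul_apply, ha, map_smul, hx, lp, ZeroMemClass.coe_zero, zero_mul, zero_smul, zero_add, s3]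
  have hu : (hF.swp * g) u = (-b) • u := by rw [LinearEquiv.mul_apply, hb, map_smul, s2, smul_neg, neg_smul]
  obtain ⟨m, hm⟩ := hO.diag_of_fix (mul_mem hO.swp_memX hg) he hu
  rw [LinearEquiv.mul_apply, hc, map_smul, lp, map_add, map_smul, s1, s3] at hm
  have := congrArg (A f) hm
  simp [hF.fe, hF.ff] at this
  exact hO.scal_ne hF.f0 hc this

theorem pair_exists (hx0 : ξ ≠ 0) (htr : ∀ v, A v v = 0 → v ≠ 0 → ∃ g ∈ X, ∃ a : F, g e = a • v) :
    ∃ c : F₀, Pair X e u f ξ 1 c := by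
  have hF := hO.toFr
  obtain ⟨g, hg, ⟨a, ha⟩, b, hb⟩ := hO.mover htr (hO.lp_iso hxs 1) (fun h0 => by
    have := congrArg (A e) h0
    simp [lp, hF.ee, hF.ef] at this) (by simp [lp, hF.ue, hF.uf])
  have hb0 := hO.scal_ne hF.u0 hb
  have huf : A u (g f) = 0 := by
    have h := hO.iso hg u f
    rw [hb, map_smulₛₗ, LinearMap.smul_apply, smul_eq_mul, hF.uf] at h
    exact (mul_eq_zero.1 h).resolve_left ((map_ne_zero σ).2 hb0)
  set α := A f (g f)
  set β := A e (g f)
  have hgf : g f = α • e + β • f := by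
    conv_lhs => rw [hF.decomp (g f)]
    rw [huf, zero_div, zero_smul, add_zero]
  obtain ⟨s1, s2, s3⟩ := hF.swp_apply
  have hβ : β ≠ 0 := fun h0 => by
    have he : (g * hF.swp) e = α • e := by rw [LinearEquiv.mul_apply, s1, hgf, h0, zero_smul, add_zero]
    obtain ⟨m, hm⟩ := hO.diag_of_fix (mul_mem hg hO.swp_memX) he (b := -b)
      (by rw [LinearEquiv.mul_apply, s2, map_neg, hb, neg_smul])
    rw [LinearEquiv.mul_apply, s3, ha, lp] at hm
    have := congrArg (A f) hm
    simp [hF.fe, hF.ff, hx0] at this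
    exact hO.scal_ne hF.e0 ha this
  have hiso := hO.iso hg f f
  rw [hgf, hF.ff] at hiso
  simp [hF.ee, hF.ef, hF.fe, hF.ff] at hiso
  have hcF : α / β / ξ ∈ F₀ := (hF.fix _).2 (by
    rw [map_div₀, map_div₀, hxs]
    have := (map_ne_zero σ).2 hβ
    field_simp
    linear_combination -hiso)
  refine ⟨⟨α / β / ξ, hcF⟩, g, hg, ⟨b, hb⟩, ⟨a, ha⟩, β, ?_⟩
  rw [hgf, lp, smul_add, smul_smul, div_mul_cancel₀ _ hx0, mul_div_cancel₀ _ hβ]

theorem square_class [Fintype F₀] {c : F₀} (hx0 : ξ ≠ 0) (hc : Pair X e u f ξ 1 c) :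
    (c = -1 ∨ ¬ IsSquare c) ∧ ∀ z w : F₀, Pair X e u f ξ z w → w = c * z ∨ c * w = z := by
  have huniq : ∀ {x y y' : F₀}, Pair X e u f ξ x y → Pair X e u f ξ x y' → y = y' := fun h h' =>
    (hO.pair_unique h h').resolve_right hx0
  have hc0 := hO.pair_ne_zero hxs (hO.pair_symm hc)
  have hc1 : c ≠ 1 := fun h => hO.pair_irrefl hxs (h ▸ hc)
  have hsq : IsSquare c → c = -1 := fun ⟨k, hk⟩ => by
    have hk0 : k ≠ 0 := fun h => hc0 (by rw [hk, h, mul_zero])
    have h1 := hO.pair_scale hxs hc hk0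
    rw [← hk, mul_one] at h1
    exact (mul_self_eq_one_iff.1 (huniq (hO.pair_symm hc) h1).symm).resolve_left hc1
  refine ⟨(em (IsSquare c)).imp hsq id, fun z w hzw => ?_⟩
  have hz0 := hO.pair_ne_zero hxs hzw
  by_cases hz : IsSquare z
  · obtain ⟨t, rfl⟩ := hz
    have ht : t ≠ 0 := fun h => hz0 (by rw [h, mul_zero])
    have h1 := hO.pair_scale hxs hc ht
    rw [mul_one] at h1
    exact Or.inl (by rw [huniq hzw h1]; ring)
  by_cases hcs : IsSquare c
  · left
    have hc' := hsq hcs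
    subst hc'
    have hw0 := hO.pair_ne_zero hxs (hO.pair_symm hzw)
    have hwn : ¬ IsSquare w := fun ⟨t, ht⟩ => hz (by
      have ht0 : t ≠ 0 := fun h => hw0 (by rw [ht, h, mul_zero])
      have h1 := hO.pair_scale hxs hc ht0
      rw [mul_one, ← ht] at h1
      rw [huniq (hO.pair_symm hzw) h1]
      exact (IsSquare.mul ⟨t, ht⟩ hcs))
    obtain ⟨t, ht⟩ := SU4.Sub.OrthArith.mul_nonsquare (a := w) (b := z⁻¹) hwn (fun h => hz (by simpa using h.inv))
    have ht0 : t ≠ 0 := fun h => (mul_ne_zero hw0 (inv_ne_zero hz0)) (by rw [ht, h, mul_zero])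
    have h1 := hO.pair_scale hxs hzw ht0
    rw [← ht, inv_mul_cancel_right₀ hz0] at h1
    have h2 := huniq (hO.pair_symm hzw) h1
    have h3 : w * w = z * z := by field_simp at h2; linear_combination -h2
    rcases mul_self_eq_mul_self_iff.1 h3 with e1 | e1
    · exact absurd (e1 ▸ hzw) (fun h => hO.pair_irrefl hxs h)
    · rw [e1, neg_one_mul]
  · right
    obtain ⟨t, ht⟩ := SU4.Sub.OrthArith.mul_nonsquare (a := z) (b := c⁻¹) hz (fun h => hcs (by simpa using h.inv))
    have ht0 : t ≠ 0 := fun h => (mul_ne_zero hz0 (inv_ne_zero hc0)) (by rw [ht, h, mul_zero])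
    have h1 := hO.pair_scale hxs (hO.pair_symm hc) ht0
    rw [← ht, inv_mul_cancel_right₀ hc0, mul_one] at h1
    rw [huniq hzw h1]
    field_simp

/-- a transitive overgroup has at most eleven elements in the fixed field -/
theorem pair_false [Fintype F₀] (hx0 : ξ ≠ 0) (htr : ∀ v, A v v = 0 → v ≠ 0 → ∃ g ∈ X, ∃ a : F, g e = a • v) :
    Fintype.card F₀ ≤ 11 := by
  have hF := hO.toFr
  obtain ⟨c, hc⟩ := hO.pair_exists hxs hx0 htr
  obtain ⟨hcc, hclass⟩ := hO.square_class hxs hx0 hc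
  have hc0 := hO.pair_ne_zero hxs (hO.pair_symm hc)
  have hc1 : c ≠ 1 := fun h => hO.pair_irrefl hxs (h ▸ hc)
  obtain ⟨g, hg, ⟨b, hb⟩, ⟨α, hα⟩, β, hβ⟩ := hO.pair_symm hc
  have hα0 := hO.scal_ne hF.e0 hα
  have hiso := hO.iso hg e f
  rw [hα, hβ] at hiso
  simp [lp, hF.ee, hF.ef, hF.fe, hF.ff, hxs, hF.fx c.2] at hiso
  have hd' : β / (ξ * α) ∈ F₀ := (hF.fix _).2 (by
    have hisoσ := congrArg σ hiso
    simp only [map_add, map_mul, map_neg, map_one, map_sub, hF.invol, hxs, hF.fx c.2] at hisoσ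
    have h1 : (σ β * α + σ α * β) * (ξ * (1 - (c : F))) = 0 := by linear_combination hiso - hisoσ
    have h2 := (mul_eq_zero.1 h1).resolve_right
      (mul_ne_zero hx0 (sub_ne_zero.2 fun h => hc1 (Subtype.ext h.symm)))
    have := (map_ne_zero σ).2 hα0
    rw [map_div₀, map_mul, hxs]
    field_simp
    linear_combination -h2)
  have hd0 : β / (ξ * α) ≠ 0 := div_ne_zero (hO.scal_ne hF.f0 hβ) (mul_ne_zero hx0 hα0)
  set d : F₀ := ⟨β / (ξ * α), hd'⟩ with hd
  have himg : ∀ x : F₀, x + d ≠ 0 → ∃ k : F, g (lp e f ξ x) = k • lp e f ξ ((c * x + d) / (x + d)) := fun x hx => by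
    refine ⟨ξ * α * ((x : F) + d), ?_⟩
    have hx' : (x : F) + d ≠ 0 := fun h0 => hx (Subtype.ext h0)
    simp only [lp, map_add, map_smul, hα, hβ]
    have k1 : ξ * α * ((x : F) + d) * (((c * x + d) / (x + d) : F₀) : F) = ξ * α * ((c : F) * x + d) := by
      push_cast
      field_simp
    have k2 : ξ * α * (d : F) = β := mul_div_cancel₀ _ (mul_ne_zero hx0 hα0)
    match_scalars
    · push_cast at k1 ⊢
      linear_combination -ξ * k1 - ξ * k2
    · linear_combination -k2
  have htrans : ∀ x y : F₀, Pair X e u f ξ x y → x + d ≠ 0 → y + d ≠ 0 →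
      Pair X e u f ξ ((c * x + d) / (x + d)) ((c * y + d) / (y + d)) := by
    rintro x y ⟨k, hk, ⟨b', hb'⟩, ⟨a1, h1⟩, a2, h2⟩ hx hy
    obtain ⟨k1, hk1⟩ := himg x hx
    obtain ⟨k2, hk2⟩ := himg y hy
    exact ⟨g * k, mul_mem hg hk, ⟨b' * b, by rw [LinearEquiv.mul_apply, hb', map_smul, hb, smul_smul]⟩,
      ⟨a1 * k1, by rw [LinearEquiv.mul_apply, h1, map_smul, hk1, smul_smul]⟩,
      a2 * k2, by rw [LinearEquiv.mul_apply, h2, map_smul, hk2, smul_smul]⟩
  have h2 : (2 : F₀) ≠ 0 := fun e0 => hF.two (congrArg Subtype.val e0)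
  have h1c : 1 - c ≠ 0 := sub_ne_zero.2 (Ne.symm hc1)
  refine pair_bound h2 (c := c) (d := d) (fun e0 => hd0 (congrArg Subtype.val e0)) hc0 hcc fun x hx hsq e1 e2 => ?_
  obtain ⟨t, rfl⟩ := hsq
  have hp := hO.pair_scale hxs hc (show t ≠ 0 from fun h => hx (by rw [h, mul_zero]))
  rw [mul_one, mul_comm (t * t) c] at hp
  rcases hclass _ _ (htrans _ _ hp e1 e2) with h | h
  · left
    rw [← mul_div_assoc, div_eq_div_iff e2 e1] at h
    exact (mul_eq_zero.1 (show (1 - c) * (c ^ 2 * (t * t * (t * t)) + (1 + c) * d * (t * t) + d ^ 2) = 0 by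
      linear_combination h)).resolve_left h1c
  · right
    rw [← mul_div_assoc, div_eq_div_iff e2 e1] at h
    exact (mul_eq_zero.1 (show (1 - c) * (c ^ 2 * (t * t * (t * t)) + c * (1 + c) * d * (t * t) + d ^ 2) = 0 by
      linear_combination -h)).resolve_left h1c

end Ov

end Cfsg.Agent.ClassicalMax.SU3.SO
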