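import Cfsg.Agent.ClassicalMax.SU3.SO.Frame
import Cfsg.Agent.ClassicalMax.Subfield.Generic

/-!
An overgroup of the rational isometries without transvections at a rational point: the stabiliser of the point is
rational.
-/

set_option autoImplicit false
set_option linter.unusedSectionVars false
set_option linter.style.haveILetI false

namespace Cfsg.Agent.ClassicalMax.SU3.SO

open Module Cfsg.Agent.Classical Cfsg.Agent.ClassicalMax Cfsg.Agent.ClassicalMax.Subfield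
open Cfsg.Agent.ClassicalMax.SU4.Sub (sg Tv sg_apply Tv_apply)

variable {F : Type*} [Field F] [Fintype F] {σ : F →+* F} {F₀ : Subfield F}
  {A : (Fin 3 → F) →ₛₗ[σ] (Fin 3 → F) →ₗ[F] F} {e u f : Fin 3 → F}
  {X : Subgroup ((Fin 3 → F) ≃ₗ[F] (Fin 3 → F))}

/-- an overgroup of the rational isometries without transvections at the first point -/
structure Ov (F₀ : Subfield F) (A : (Fin 3 → F) →ₛₗ[σ] (Fin 3 → F) →ₗ[F] F) (e u f : Fin 3 → F)
    (X : Subgroup ((Fin 3 → F) ≃ₗ[F] (Fin 3 → F))) : Prop extends Fr F₀ A e u f where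
  le : X ≤ Herm.suG A
  rat : ∀ g ∈ Herm.suG A, Ratty F₀ g → g ∈ X
  nt : ∀ c : F, c + σ c = 0 → Tv A e c ∈ X → c = 0

/-- the maps rational up to scalars -/
noncomputable def rty (F₀ : Subfield F) : Subgroup ((Fin 3 → F) ≃ₗ[F] (Fin 3 → F)) :=
  ((Matrix.GeneralLinearGroup.map (F₀.subtype : F₀ →+* F)).range ⊔ Cfsg.Geo.scalars (Fin 3) F).map
    (glEquiv (Fin 3) F).toMonoidHom

theorem mem_rty {g : (Fin 3 → F) ≃ₗ[F] (Fin 3 → F)} : g ∈ rty F₀ ↔ Ratty F₀ g := by
  constructor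
  · rintro ⟨x, hx, rfl⟩
    exact (mem_ratScalar_iff x).1 hx
  · intro h
    exact ⟨(glEquiv (Fin 3) F).symm g, (mem_ratScalar_iff _).2 (by rwa [MulEquiv.apply_symm_apply]),
      MulEquiv.apply_symm_apply _ _⟩

/-- the scalars of the special unitary group -/
def zs (σ : F →+* F) : Subgroup Fˣ where
  carrier := {z | (z : F) ^ 3 = 1 ∧ (z : F) * σ z = 1}
  mul_mem' {a b} ha hb := ⟨by rw [Units.val_mul, mul_pow, ha.1, hb.1, one_mul],
    by rw [Units.val_mul, map_mul, mul_mul_mul_comm, ha.2, hb.2, one_mul]⟩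
  one_mem' := ⟨one_pow 3, by rw [Units.val_one, map_one, mul_one]⟩
  inv_mem' {a} ha := ⟨by rw [Units.val_inv_eq_inv_val, inv_pow, ha.1, inv_one],
    by rw [Units.val_inv_eq_inv_val, map_inv₀, ← mul_inv, ha.2, inv_one]⟩

/-- scalar maps -/
noncomputable def sc3 (z : Fˣ) : (Fin 3 → F) ≃ₗ[F] (Fin 3 → F) := LinearEquiv.smulOfUnit z

theorem sc3_apply (z : Fˣ) (x : Fin 3 → F) : sc3 z x = (z : F) • x := rfl

theorem sc3_comm (z : Fˣ) (g : (Fin 3 → F) ≃ₗ[F] (Fin 3 → F)) : g * sc3 z = sc3 z * g :=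
  LinearEquiv.ext fun x => by rw [LinearEquiv.mul_apply, LinearEquiv.mul_apply, sc3_apply, sc3_apply, map_smul]

namespace Fr

variable (hF : Fr F₀ A e u f)
include hF

theorem sc3_mem {z : Fˣ} (hz : z ∈ zs σ) : sc3 z ∈ Herm.suG A ∧ Ratty F₀ (sc3 z) := by
  refine ⟨Unitary.mem_suG hF.herm (fun x y => ?_) ?_, hF.ratty_of_frame (inv_ne_zero z.ne_zero) ?_ ?_ ?_⟩
  · simp only [sc3_apply, map_smulₛₗ, LinearMap.smul_apply, smul_eq_mul, RingHom.id_apply]
    linear_combination (A x y) * hz.2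
  · rw [show (sc3 z).toLinearMap = (z : F) • LinearMap.id from rfl, LinearMap.det_smul, LinearMap.det_id, mul_one,
      Module.finrank_fin_fun]
    exact hz.1
  all_goals rw [sc3_apply, smul_smul, inv_mul_cancel₀ z.ne_zero, one_smul]
  exacts [hF.re, hF.ru, hF.rf]

end Fr

namespace Ov

variable (hO : Ov F₀ A e u f X)
include hO

theorem iso {g : (Fin 3 → F) ≃ₗ[F] (Fin 3 → F)} (hg : g ∈ X) (a b : Fin 3 → F) : A (g a) (g b) = A a b :=
  (hO.le hg).1 a b

theorem det {g : (Fin 3 → F) ≃ₗ[F] (Fin 3 → F)} (hg : g ∈ X) : LinearMap.det g.toLinearMap = 1 := by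
  rw [← LinearEquiv.coe_det, (hO.le hg).2, Units.val_one]

theorem uni_memX {r : F} (hr : r ∈ F₀) : hO.toFr.uni r ∈ X :=
  hO.rat _ (hO.toFr.uni_mem hr).1 (hO.toFr.uni_mem hr).2

theorem dg_memX {t : Fˣ} (ht : (t : F) ∈ F₀) : hO.toFr.dg t 1 ∈ X :=
  hO.rat _ (hO.toFr.dg_mem ht).1 (hO.toFr.dg_mem ht).2

theorem swp_memX : hO.toFr.swp ∈ X := hO.rat _ hO.toFr.swp_mem.1 hO.toFr.swp_mem.2

theorem sc3_memX {z : Fˣ} (hz : z ∈ zs σ) : sc3 z ∈ X := hO.rat _ (hO.toFr.sc3_mem hz).1 (hO.toFr.sc3_mem hz).2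

/-- entries of an element fixing the point -/
theorem entries {g : (Fin 3 → F) ≃ₗ[F] (Fin 3 → F)} (hg : g ∈ X) {a : F} (ha : g e = a • e) :
    ∃ γ β ν d c : F, g u = γ • e + β • u ∧ g f = ν • e + d • u + c • f ∧ σ a * c = 1 ∧ σ β * β = 1 ∧ a * β * c = 1 := by
  have hF := hO.toFr
  have ha0 : a ≠ 0 := fun h => hF.e0 (g.map_eq_zero_iff.1 (by rw [ha, h, zero_smul]))
  have hsa : σ a ≠ 0 := (map_ne_zero σ).2 ha0
  have h0 : A e (g u) = 0 := by
    have h := hO.iso hg e u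
    rw [ha, map_smulₛₗ, LinearMap.smul_apply, smul_eq_mul, hF.eu] at h
    exact (mul_eq_zero.1 h).resolve_left hsa
  have hu : g u = A f (g u) • e + (A u (g u) / A u u) • u := by
    conv_lhs => rw [hF.decomp (g u)]
    rw [h0, zero_smul, add_zero]
  have hf := hF.decomp (g f)
  refine ⟨_, _, _, _, _, hu, hf, ?_, ?_, ?_⟩
  · have h := hO.iso hg e f
    rw [ha, map_smulₛₗ, LinearMap.smul_apply, smul_eq_mul, hF.ef] at h
    exact h
  · have h := hO.iso hg u u
    set γ := A f (g u)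
    set β := A u (g u) / A u u
    rw [hu] at h
    simp only [map_add, map_smulₛₗ, LinearMap.add_apply, LinearMap.smul_apply, RingHom.id_apply, smul_eq_mul, hF.ee,
      hF.eu, hF.ue, mul_zero, add_zero, zero_add] at h
    exact mul_right_cancel₀ hF.qu (by linear_combination h)
  · have h := hO.det hg
    rw [hF.det_frame g ha hu hf] at h
    exact h

/-- elements fixing the vector are rational unipotent elements -/
theorem fix_vec {g : (Fin 3 → F) ≃ₗ[F] (Fin 3 → F)} (hg : g ∈ X) (he : g e = e) : ∃ r ∈ F₀, g = hO.toFr.uni r := by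
  have hF := hO.toFr
  obtain ⟨γ, β, ν, d, c, hu, hf, hac, -, hdet⟩ := hO.entries hg (a := 1) (by rw [one_smul, he])
  rw [map_one, one_mul] at hac
  rw [hac, one_mul, mul_one] at hdet
  subst hac hdet
  rw [one_smul] at hu hf
  have h1 := hO.iso hg u f
  rw [hu, hf] at h1
  simp [hF.ee, hF.eu, hF.ue, hF.ef, hF.uf] at h1
  have h2 := hO.iso hg f f
  rw [hf] at h2
  simp [hF.ee, hF.ff, hF.eu, hF.ue, hF.ef, hF.fe, hF.uf, hF.fu] at h2
  have hγ : γ = -(σ d * A u u) := by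
    have h := congrArg σ h1
    rw [map_add, hF.invol, map_mul, hF.fqu, map_zero] at h
    linear_combination h
  have hed : A e (d • u) = 0 := by rw [map_smul, hF.eu, smul_zero]
  have hde := (Herm.eq_zero_comm hF.herm).1 hed
  have hgs : g = sg A e (d • u) (-ν) := by
    refine hF.ext_frame ?_ ?_ ?_ <;> simp only [sg_apply hF.ee hed hde]
    · simp [he, hF.ee, hF.eu, hF.ue]
    · rw [hu, hγ]; simp [hF.eu]; module
    · rw [hf]; simp [hF.ef, hF.uf]; module
  have he1 : A e ((1 : F) • u) = 0 := by rw [one_smul, hF.eu]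
  have h1e := (Herm.eq_zero_comm hF.herm).1 he1
  set k := (d - σ d) * A u u with hk
  have hcomm : g * hF.uni 1 = Tv A e k * (hF.uni 1 * g) := by
    rw [hgs, Fr.uni, SU4.Sub.sg_mul hF.ee hed hde he1 h1e, SU4.Sub.sg_mul hF.ee he1 h1e hed hde,
      show Tv A e k = sg A e 0 (-k) by rw [SU4.Sub.sg_zero hF.ee, neg_neg],
      SU4.Sub.sg_mul hF.ee (by simp) (by simp) (by rw [map_add, he1, hed, add_zero])
        (by rw [map_add, LinearMap.add_apply, h1e, hde, add_zero]), zero_add, add_comm (d • u)]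
    congr 1
    simp [hk]
    ring
  have hkX : Tv A e k ∈ X := by
    have := mul_mem (mul_mem hg (hO.uni_memX F₀.one_mem)) (inv_mem (mul_mem (hO.uni_memX F₀.one_mem) hg))
    rwa [hcomm, mul_inv_cancel_right] at this
  have hk0 := hO.nt k (by rw [hk, map_mul, map_sub, hF.invol, hF.fqu]; ring) hkX
  have hd : σ d = d := (sub_eq_zero.1 ((mul_eq_zero.1 hk0).resolve_right hF.qu)).symm
  have hdF : d ∈ F₀ := (hF.fix d).2 hd
  refine ⟨d, hdF, ?_⟩
  set μ := -ν - A u u * d * d / 2 with hμ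
  have hfac : g = Tv A e (-μ) * hF.uni d := by
    rw [hgs, Fr.uni, ← SU4.Sub.sg_zero hF.ee, SU4.Sub.sg_mul hF.ee (by simp) (by simp) hed hde, zero_add, map_zero,
      LinearMap.zero_apply, add_zero, hμ]
    congr 1
    ring
  have hX : Tv A e (-μ) ∈ X := by
    have := mul_mem hg (inv_mem (hO.uni_memX hdF))
    rwa [hfac, mul_inv_cancel_right] at this
  have hμ0 := hO.nt _ (by
    rw [map_neg, hμ, map_sub, map_neg, map_div₀, map_mul, map_mul, hF.fqu, hd, map_ofNat]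
    field_simp [hF.two]
    rw [hd] at h2
    linear_combination (2 : F) * h2) hX
  rw [hfac, hμ0, SU4.Sub.Tv_zero hF.ee, one_mul]

/-- the stabiliser of the point -/
theorem fix_point {g : (Fin 3 → F) ≃ₗ[F] (Fin 3 → F)} (hg : g ∈ X) {a : F} (ha : g e = a • e) :
    ∃ z ∈ zs σ, ∃ t : Fˣ, (t : F) ∈ F₀ ∧ ∃ r ∈ F₀, g = sc3 z * (hO.toFr.dg t 1 * hO.toFr.uni r) := by
  have hF := hO.toFr
  obtain ⟨γ, β, ν, d, c, hu, -, hac, hββ, hdet⟩ := hO.entries hg ha
  have hc0 : c ≠ 0 := fun h => by rw [h, mul_zero] at hac; exact zero_ne_one hac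
  have ha0 : a ≠ 0 := fun h => by rw [h, zero_mul, zero_mul] at hdet; exact zero_ne_one hdet
  have hβ0 : β ≠ 0 := fun h => by rw [h, mul_zero, zero_mul] at hdet; exact zero_ne_one hdet
  have hσa : σ a = a * β := mul_right_cancel₀ hc0 (hac.trans hdet.symm)
  -- the conjugate of a unipotent element
  set k := g * hF.uni 1 * g⁻¹ with hk
  have hkX : k ∈ X := mul_mem (mul_mem hg (hO.uni_memX F₀.one_mem)) (inv_mem hg)
  have hge : g⁻¹ e = a⁻¹ • e := g.injective (by
    rw [apply_inv, map_smul, ha, smul_smul, inv_mul_cancel₀ ha0, one_smul])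
  obtain ⟨h1, h2, -⟩ := hF.uni_apply 1
  have hke : k e = e := by
    rw [hk, LinearEquiv.mul_apply, LinearEquiv.mul_apply, hge, map_smul, h1, map_smul, ha, smul_smul,
      inv_mul_cancel₀ ha0, one_smul]
  obtain ⟨r, hr, hkr⟩ := hO.fix_vec hkX hke
  obtain ⟨g1, g2, -⟩ := hF.uni_apply r
  have hkey : k (g u) = g (hF.uni 1 u) := by
    rw [hk, LinearEquiv.mul_apply, LinearEquiv.mul_apply, inv_apply]
  rw [hkr, hu, map_add, map_smul, map_smul, g1, g2, h2, map_sub, map_smul, ha, hu, hF.fx hr, map_one, one_mul] at hkey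
  have hk2 := congrArg (A f) hkey
  simp [hF.fe, hF.fu] at hk2
  have hab : β * r = a := mul_right_cancel₀ hF.qu (by linear_combination -hk2)
  have hr0 : r ≠ 0 := fun h => ha0 (by rw [← hab, h, mul_zero])
  have hσβ : σ β = β * β := mul_right_cancel₀ hr0 (by
    rw [← hab, map_mul, hF.fx hr] at hσa; linear_combination hσa)
  have hβ3 : β ^ 3 = 1 := by rw [← hββ, hσβ]; ring
  have hz : Units.mk0 β hβ0 ∈ zs σ := ⟨hβ3, by rw [Units.val_mk0, mul_comm]; exact hββ⟩
  set t := Units.mk0 r hr0 with ht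
  have htF : (t : F) ∈ F₀ := hr
  set g' := (hF.dg t 1)⁻¹ * ((sc3 (Units.mk0 β hβ0))⁻¹ * g) with hg'
  have hg'X : g' ∈ X := mul_mem (inv_mem (hO.dg_memX htF)) (mul_mem (inv_mem (hO.sc3_memX hz)) hg)
  have hg'e : g' e = e := by
    rw [hg', LinearEquiv.mul_apply, LinearEquiv.mul_apply]
    refine (hF.dg t 1).injective ((sc3 (Units.mk0 β hβ0)).injective ?_)
    rw [apply_inv, apply_inv, ha, (hF.dg_apply t 1).1, sc3_apply, Units.val_mk0, smul_smul, ht, Units.val_mk0, hab]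
  obtain ⟨s, hs, hgs⟩ := hO.fix_vec hg'X hg'e
  refine ⟨_, hz, t, htF, s, hs, ?_⟩
  rw [← hgs, hg']
  group

end Ov

end Cfsg.Agent.ClassicalMax.SU3.SO
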